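import Groth.Agent.SiteCoh.Cech
import Mathlib.CategoryTheory.Limits.Preserves.Shapes.Products
import Mathlib.CategoryTheory.Limits.Preserves.Finite

/-!
# Transfer of Čech complexes along product preserving functors, for arbitrary universes
-/

set_option autoImplicit false
set_option linter.all false

universe w v₁ u₁ v₂ u₂

open CategoryTheory CategoryTheory.Limits Opposite
open Groth.Agent.SiteCoh Groth.Agent.SiteCoh.Cech

namespace Groth.Agent.EtCechLib

variable {E : Type u₁} [Category.{v₁} E] [HasFiniteProducts E] {E' : Type u₂} [Category.{v₂} E'] [HasFiniteProducts E'] (G : E ⥤ E')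
  [∀ n : ℕ, PreservesLimitsOfShape (Discrete (Fin n)) G]
  (P : E'ᵒᵖ ⥤ AddCommGrpCat.{w}) {ι : Type w} (W : ι → E)

/-- `inter (G ∘ W) a ⟶ G (inter W a)`. -/
noncomputable def interHom {p : ℕ} (a : Fin (p + 1) → ι) :
    inter (fun i => G.obj (W i)) a ⟶ G.obj (inter W a) :=
  (PreservesProduct.iso G (fun k => W (a k))).inv

lemma interHom_π {p : ℕ} (a : Fin (p + 1) → ι) (k : Fin (p + 1)) :
    interHom G W a ≫ G.map (Pi.π (fun k => W (a k)) k) = Pi.π (fun k => G.obj (W (a k))) k := by
  rw [interHom, Iso.inv_comp_eq, PreservesProduct.iso_hom, piComparison_comp_π]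

instance {p : ℕ} (a : Fin (p + 1) → ι) : IsIso (interHom G W a) := by
  unfold interHom; infer_instance

lemma interHom_face {p : ℕ} (a : Fin (p + 2) → ι) (j : Fin (p + 2)) :
    interHom G W a ≫ G.map (face W a j) =
      face (fun i => G.obj (W i)) a j ≫ interHom G W (a ∘ j.succAbove) := by
  have key : ∀ {Z : E'} (f g : Z ⟶ G.obj (inter W (a ∘ j.succAbove))),
      (∀ k, f ≫ G.map (Pi.π (fun k => W (a (j.succAbove k))) k) =
        g ≫ G.map (Pi.π (fun k => W (a (j.succAbove k))) k)) → f = g := fun f g h => by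
    rw [← cancel_mono (PreservesProduct.iso G (fun k => W (a (j.succAbove k)))).hom]
    refine Pi.hom_ext _ _ fun k => ?_
    rw [Category.assoc, Category.assoc, PreservesProduct.iso_hom, piComparison_comp_π]
    exact h k
  refine key _ _ fun k => ?_
  rw [Category.assoc, ← G.map_comp, Category.assoc]
  refine (congrArg (fun m => interHom G W a ≫ G.map m) (Pi.lift_π _ _)).trans ?_
  rw [interHom_π]
  refine Eq.trans ?_ (congrArg (fun m => face (fun i => G.obj (W i)) a j ≫ m)
    (interHom_π G W (a ∘ j.succAbove) k)).symm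
  simp [face]

/-- Cech vanishing may be checked after a functor preserving finite products. -/
lemma isZero_homology_comp_iff (p : ℕ) :
    IsZero ((cx (G.op ⋙ P) W).homology (p + 1)) ↔
      IsZero ((cx P (fun i => G.obj (W i))).homology (p + 1)) := by
  let T : ∀ q, (cx (G.op ⋙ P) W).X q → (cx P (fun i => G.obj (W i))).X q := fun q x =>
    mk P _ fun a => P.map (interHom G W a).op (ev (G.op ⋙ P) W a x)
  have hT : ∀ q x, T (q + 1) ((cx (G.op ⋙ P) W).d q (q + 1) x) =
      (cx P (fun i => G.obj (W i))).d q (q + 1) (T q x) := by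
    intro q x
    refine ext _ _ fun a => ?_
    rw [ev_mk, ev_d, ev_d, map_sum]
    refine Finset.sum_congr rfl fun j _ => ?_
    rw [map_zsmul, ev_mk]
    refine congrArg (fun z => (-1 : ℤ) ^ (j : ℕ) • z) ?_
    change P.map _ (P.map (G.map (face W a j)).op _) = P.map _ (P.map _ _)
    rw [← ConcreteCategory.comp_apply, ← P.map_comp, ← op_comp, interHom_face, op_comp,
      P.map_comp, ConcreteCategory.comp_apply]
  have hinj : ∀ q x y, T q x = T q y → x = y := fun q x y hxy => by
    refine ext _ _ fun a => ?_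
    have := congrArg (ev P _ a) hxy
    rw [ev_mk, ev_mk] at this
    exact (AddCommGrpCat.mono_iff_injective (P.map (interHom G W a).op)).1 inferInstance this
  have hsurj : ∀ q y, ∃ x, T q x = y := fun q y =>
    ⟨mk _ W fun a => P.map (inv (interHom G W a)).op (ev P _ a y), ext _ _ fun a => by
      rw [ev_mk, ev_mk]
      rw [← ConcreteCategory.comp_apply, ← P.map_comp, ← op_comp, IsIso.hom_inv_id, op_id,
        P.map_id, ConcreteCategory.id_apply]⟩
  have hT0 : ∀ q, T q 0 = 0 := fun q => ext _ _ fun a => by rw [ev_mk, map_zero, map_zero, map_zero]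
  rw [isZero_homology_succ_iff, isZero_homology_succ_iff]
  refine ⟨fun h y hy => ?_, fun h x hx => ?_⟩
  · obtain ⟨x, rfl⟩ := hsurj (p + 1) y
    obtain ⟨z, hz⟩ := h x (hinj _ _ _ (by rw [hT, hy, hT0]))
    exact ⟨T p z, by rw [← hT, hz]⟩
  · obtain ⟨y, hy⟩ := h (T (p + 1) x) (by rw [← hT, hx, hT0])
    obtain ⟨z, rfl⟩ := hsurj p y
    exact ⟨z, hinj _ _ _ (by rw [hT, hy])⟩

/-- Cech vanishing transfers along a functor preserving finite products. -/
lemma isZero_homology_comp (p : ℕ)
    (h : IsZero ((cx P (fun i => G.obj (W i))).homology (p + 1))) :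
    IsZero ((cx (G.op ⋙ P) W).homology (p + 1)) :=
  (isZero_homology_comp_iff G P W p).2 h


end Groth.Agent.EtCechLib
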