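import Groth.Agent.EtCechLib.Inj
import Groth.Agent.SiteCoh.ExtAcyclic
import Mathlib.CategoryTheory.Sites.EpiMono
import Mathlib.CategoryTheory.Sites.ConstantSheaf
import Mathlib.CategoryTheory.Sites.LeftExact
import Mathlib.CategoryTheory.Sites.Abelian

/-!
# The Cartan criterion on sites, for arbitrary universes
-/

set_option autoImplicit false
set_option linter.all false
set_option backward.isDefEq.respectTransparency.types false
set_option backward.isDefEq.respectTransparency false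

universe w v u v' u' w'

open CategoryTheory CategoryTheory.Limits CategoryTheory.Abelian Opposite
open Groth.Agent.SiteCoh

namespace Groth.Agent.EtCechLib

variable {C : Type u} [Category.{v} C] {J : GrothendieckTopology C}
  [HasSheafify J AddCommGrpCat.{w}] [J.WEqualsLocallyBijective AddCommGrpCat.{w}]

/-- The sections functor on `U`. -/
noncomputable abbrev sectionsAt (J : GrothendieckTopology C) (U : C) :
    Sheaf J AddCommGrpCat.{w} ⥤ AddCommGrpCat.{w} :=
  sheafToPresheaf J AddCommGrpCat.{w} ⋙ (evaluation Cᵒᵖ AddCommGrpCat.{w}).obj (op U)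

lemma sections_injective {F G : Sheaf J AddCommGrpCat.{w}} (f : F ⟶ G) [Mono f] (U : C) :
    Function.Injective (f.hom.app (op U)) :=
  (AddCommGrpCat.mono_iff_injective _).1 (inferInstanceAs (Mono ((sectionsAt J U).map f)))

/-- Left exactness of sections. -/
lemma sections_exact {S : ShortComplex (Sheaf J AddCommGrpCat.{w})} (hS : S.ShortExact) (U : C)
    (y : S.X₂.obj.obj (op U)) (hy : S.g.hom.app (op U) y = 0) :
    ∃ x, S.f.hom.app (op U) x = y :=
  (ShortComplex.ab_exact_iff _).1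
    (hS.exact.map_of_mono_of_preservesKernel (sectionsAt J U) hS.mono_f inferInstance) y hy

lemma sections_comp_eq_zero {S : ShortComplex (Sheaf J AddCommGrpCat.{w})} (U : C)
    (x : S.X₁.obj.obj (op U)) : S.g.hom.app (op U) (S.f.hom.app (op U) x) = 0 :=
  ConcreteCategory.congr_hom ((S.map (sectionsAt J U)).zero) x

/-- Gluing along a covering family. -/
lemma existsUnique_amalgamation (F : Sheaf J AddCommGrpCat.{w}) {U : C} {ι : Type w} {Y : ι → C}
    (π : ∀ i, Y i ⟶ U) (hcov : Sieve.ofArrows Y π ∈ J U) (x : ∀ i, F.obj.obj (op (Y i)))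
    (hx : ∀ i j (Z : C) (gi : Z ⟶ Y i) (gj : Z ⟶ Y j), gi ≫ π i = gj ≫ π j →
      F.obj.map gi.op (x i) = F.obj.map gj.op (x j)) :
    ∃! t : F.obj.obj (op U), ∀ i, F.obj.map (π i).op t = x i :=
  Presieve.isSheafFor_arrows_iff (F.obj ⋙ forget AddCommGrpCat.{w}) π |>.1
    ((Presieve.isSheafFor_iff_generate _).2
      ((Presieve.isSheaf_iso J (Functor.isoWhiskerLeft F.obj AddCommGrpCat.coyonedaObjIsoForget.{w})
          (F.property (AddCommGrpCat.of (ULift.{w} ℤ)))) _ hcov)) x hx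

lemma ext_of_cover (F : Sheaf J AddCommGrpCat.{w}) {U : C} {ι : Type w} {Y : ι → C}
    (π : ∀ i, Y i ⟶ U) (hcov : Sieve.ofArrows Y π ∈ J U) {s t : F.obj.obj (op U)}
    (h : ∀ i, F.obj.map (π i).op s = F.obj.map (π i).op t) : s = t :=
  (existsUnique_amalgamation F π hcov (fun i => F.obj.map (π i).op t) fun i j Z gi gj hij => by
    rw [← ConcreteCategory.comp_apply, ← F.obj.map_comp, ← op_comp, hij, op_comp, F.obj.map_comp,
      ConcreteCategory.comp_apply]).unique h fun _ => rfl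

/-- Sections lift locally along an epimorphism. -/
lemma exists_local_lift {F G : Sheaf J AddCommGrpCat.{w}} (g : F ⟶ G) [Epi g] {U : C}
    (x : G.obj.obj (op U)) :
    ∃ S ∈ J U, ∀ ⦃V : C⦄ (f : V ⟶ U), S.arrows f →
      ∃ y : F.obj.obj (op V), g.hom.app (op V) y = G.obj.map f.op x := by
  have : Sheaf.IsLocallySurjective g := (Sheaf.isLocallySurjective_iff_epi' (A := AddCommGrpCat.{w}) g).2 ‹_›
  exact ⟨Presheaf.imageSieve g.hom x, Presheaf.imageSieve_mem J g.hom x, fun V f hf => hf⟩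

section Cech

variable {E : Type u'} [Category.{v'} E] [HasFiniteProducts E] (G : E ⥤ C)

/-- The presheaf on `E` of a sheaf on `C`. -/
noncomputable abbrev pullPsh (F : Sheaf J AddCommGrpCat.{w}) : Eᵒᵖ ⥤ AddCommGrpCat.{w} :=
  G.op ⋙ F.obj

variable {S : ShortComplex (Sheaf J AddCommGrpCat.{w})}

/-- Sections lift to a cover with vanishing first Cech cohomology, then globally. -/
lemma exists_lift_of_cech (hS : S.ShortExact) {U : C} {ι : Type w} (W : ι → E)
    (π : ∀ i, G.obj (W i) ⟶ U) (hcov : Sieve.ofArrows (fun i => G.obj (W i)) π ∈ J U)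
    (hcomm : ∀ (Z : E) i j (f : Z ⟶ W i) (g : Z ⟶ W j), G.map f ≫ π i = G.map g ≫ π j)
    (hpair : ∀ (Z : C) i j (f : Z ⟶ G.obj (W i)) (g : Z ⟶ G.obj (W j)), f ≫ π i = g ≫ π j →
      ∃ (Z' : E) (e : Z ⟶ G.obj Z') (f' : Z' ⟶ W i) (g' : Z' ⟶ W j),
        e ≫ G.map f' = f ∧ e ≫ G.map g' = g)
    (hH : IsZero ((Cech.cx (pullPsh G S.X₁) W).homology 1))
    (x : S.X₃.obj.obj (op U))
    (hlift : ∀ i, ∃ y : S.X₂.obj.obj (op (G.obj (W i))),
      S.g.hom.app (op (G.obj (W i))) y = S.X₃.obj.map (π i).op x) :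
    ∃ t : S.X₂.obj.obj (op U), S.g.hom.app (op U) t = x := by
  choose s hs using hlift
  let φ : pullPsh G S.X₁ ⟶ pullPsh G S.X₂ := Functor.whiskerLeft G.op S.f.hom
  let ψ : pullPsh G S.X₂ ⟶ pullPsh G S.X₃ := Functor.whiskerLeft G.op S.g.hom
  let c : (Cech.cx (pullPsh G S.X₂) W).X 0 := Cech.mk _ W fun a =>
    S.X₂.obj.map (G.map (Pi.π (fun k => W (a k)) 0)).op (s (a 0))
  have hvalc : ∀ (Z : E) (t : Fin 1 → (i : ι) × (Z ⟶ W i)),
      Cech.val (pullPsh G S.X₂) W c t = S.X₂.obj.map (G.map (t 0).2).op (s (t 0).1) := by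
    intro Z t
    rw [Cech.val, Cech.ev_mk]
    change S.X₂.obj.map (G.map _).op (S.X₂.obj.map _ _) = _
    rw [← ConcreteCategory.comp_apply, ← S.X₂.obj.map_comp, ← op_comp, ← G.map_comp, Quiver.Hom.unop_op]
    exact congrArg (fun m => S.X₂.obj.map (G.map m).op (s (t 0).1)) (Pi.lift_π _ _)
  have hψc : ∀ (Z : E) (t : Fin 1 → (i : ι) × (Z ⟶ W i)),
      S.g.hom.app (op (G.obj Z)) (Cech.val (pullPsh G S.X₂) W c t) =
        S.X₃.obj.map (G.map (t 0).2 ≫ π (t 0).1).op x := by
    intro Z t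
    rw [hvalc, NatTrans.naturality_apply, hs, ← ConcreteCategory.comp_apply,
      ← S.X₃.obj.map_comp, ← op_comp]
  choose e he using fun a : Fin 2 → ι => sections_exact hS (G.obj (Cech.inter W a))
    (Cech.ev (pullPsh G S.X₂) W a ((Cech.cx (pullPsh G S.X₂) W).d 0 1 c)) (by
      rw [Cech.ev_eq_val_taut, Cech.val_d, map_sum, Fin.sum_univ_two]
      rw [map_zsmul, map_zsmul, hψc, hψc]
      simp only [Fin.val_zero, pow_zero, one_zsmul, Fin.val_one, pow_one, neg_smul]
      rw [hcomm (Cech.inter W a) _ _ ((Cech.taut W a ∘ (0 : Fin 2).succAbove) 0).2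
        ((Cech.taut W a ∘ (1 : Fin 2).succAbove) 0).2, add_neg_cancel])
  have hinj : ∀ {p : ℕ} (a : Fin (p + 1) → ι),
      Function.Injective (φ.app (op (Cech.inter W a))) := fun a =>
    haveI := hS.mono_f
    sections_injective S.f (G.obj (Cech.inter W a))
  have he' : Cech.map W φ (Cech.mk _ W e) = (Cech.cx (pullPsh G S.X₂) W).d 0 1 c :=
    Cech.ext _ W fun a => by rw [Cech.ev_map, Cech.ev_mk]; exact he a
  obtain ⟨b, hb⟩ := (Cech.isZero_homology_succ_iff _ W 0).1 hH (Cech.mk _ W e)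
    (Cech.map_injective W φ hinj (by
      rw [Cech.map_d, he', Cech.map_eq_zero, ← ConcreteCategory.comp_apply,
        HomologicalComplex.d_comp_d]
      rfl))
  let c' := c - Cech.map W φ b
  have hc' : (Cech.cx (pullPsh G S.X₂) W).d 0 1 c' = 0 := by
    rw [map_sub, ← Cech.map_d, hb, he', sub_self]
  let s' : ∀ i, S.X₂.obj.obj (op (G.obj (W i))) := fun i =>
    Cech.val (pullPsh G S.X₂) W c' (fun _ => ⟨i, 𝟙 (W i)⟩)
  have hs' : ∀ i, S.g.hom.app (op (G.obj (W i))) (s' i) = S.X₃.obj.map (π i).op x := by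
    intro i
    have h₁ : S.g.hom.app (op (G.obj (W i)))
        (Cech.val (pullPsh G S.X₂) W c (fun _ => ⟨i, 𝟙 (W i)⟩)) = S.X₃.obj.map (π i).op x := by
      rw [hψc, G.map_id, Category.id_comp]
    have h₂ : S.g.hom.app (op (G.obj (W i)))
        (Cech.val (pullPsh G S.X₂) W (Cech.map W φ b) (fun _ => ⟨i, 𝟙 (W i)⟩)) = 0 := by
      rw [Cech.val, Cech.ev_map]
      change S.g.hom.app _ (S.X₂.obj.map _ (S.f.hom.app _ _)) = _
      rw [NatTrans.naturality_apply, sections_comp_eq_zero, map_zero]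
    change S.g.hom.app _ ((pullPsh G S.X₂).map _ (Cech.ev _ W _ (c - _))) = _
    rw [map_sub, map_sub, map_sub]
    exact (congrArg₂ (· - ·) h₁ h₂).trans (sub_zero _)
  obtain ⟨t, ht, -⟩ := existsUnique_amalgamation S.X₂ π hcov s' fun i j Z f g hfg => by
    obtain ⟨Z', z, f', g', rfl, rfl⟩ := hpair Z i j f g hfg
    have := Cech.val_d (pullPsh G S.X₂) W c'
      (Fin.cons ⟨j, g'⟩ fun _ : Fin 1 => (⟨i, f'⟩ : (i : ι) × (Z' ⟶ W i)))
    rw [hc', Fin.sum_univ_two] at this
    simp only [Fin.val_zero, pow_zero, one_zsmul, Fin.val_one, pow_one, neg_smul,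
      Cech.val, map_zero] at this
    have h' := eq_of_sub_eq_zero ((sub_eq_add_neg _ _).trans this.symm)
    rw [op_comp, S.X₂.obj.map_comp, ConcreteCategory.comp_apply, op_comp, S.X₂.obj.map_comp,
      ConcreteCategory.comp_apply]
    refine congrArg (S.X₂.obj.map z.op) ?_
    refine (Cech.map_val (pullPsh G S.X₂) W c' f' _).trans
      (Eq.trans ?_ (Cech.map_val (pullPsh G S.X₂) W c' g' _).symm)
    simp only [Category.comp_id]
    refine Eq.trans ?_ (h'.trans ?_)
    · exact congrArg (Cech.val (pullPsh G S.X₂) W c') (funext fun k => by fin_cases k; rfl)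
    · exact congrArg (Cech.val (pullPsh G S.X₂) W c') (funext fun k => by fin_cases k; rfl)
  refine ⟨t, ext_of_cover S.X₃ π hcov fun i => ?_⟩
  rw [← NatTrans.naturality_apply, ht, hs']

/-- The Cech cohomology of a quotient, for a short exact sequence of sheaves surjective on the
intersections. -/
lemma isZero_cech_X₃ (hS : S.ShortExact) {ι : Type w} (W : ι → E)
    (hsurj : ∀ {p : ℕ} (a : Fin (p + 1) → ι),
      Function.Surjective (S.g.hom.app (op (G.obj (Cech.inter W a)))))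
    (p : ℕ) (h₂ : IsZero ((Cech.cx (pullPsh G S.X₂) W).homology (p + 1)))
    (h₁ : IsZero ((Cech.cx (pullPsh G S.X₁) W).homology (p + 2))) :
    IsZero ((Cech.cx (pullPsh G S.X₃) W).homology (p + 1)) :=
  haveI := hS.mono_f
  Cech.isZero_homology_of_exact W (Functor.whiskerLeft G.op S.f.hom)
    (Functor.whiskerLeft G.op S.g.hom) (fun a => sections_injective S.f _) hsurj
    (fun a y hy => sections_exact hS _ y hy)
    (by ext Z x; exact sections_comp_eq_zero _ x) p h₂ h₁

end Cech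

/-- An injective sheaf is injective as a presheaf. -/
theorem injective_obj (I : Sheaf J AddCommGrpCat.{w}) [Injective I] : Injective I.obj :=
  Injective.injective_of_adjoint (sheafificationAdjunction J AddCommGrpCat.{w}) I

section Cartan

variable [∀ U : C, HasFiniteProducts (Over U)]

/-- Surjectivity on sections from vanishing first Čech cohomology on cofinal covers. -/
theorem surjective_sections_of_cech {S : ShortComplex (Sheaf J AddCommGrpCat.{w})}
    (hS : S.ShortExact) (U : C)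
    (h : ∀ T ∈ J U, ∃ (ι : Type w) (Y : ι → Over U), (∀ i, T.arrows (Y i).hom) ∧
      Sieve.ofArrows (fun i => (Y i).left) (fun i => (Y i).hom) ∈ J U ∧
      IsZero ((Cech.cx (pullPsh (Over.forget U) S.X₁) Y).homology 1)) :
    Function.Surjective (S.g.hom.app (op U)) := by
  intro x
  have := hS.epi_g
  obtain ⟨T, hT, hlift⟩ := exists_local_lift S.g x
  obtain ⟨ι, Y, hYT, hcov, hH⟩ := h T hT
  exact exists_lift_of_cech (Over.forget U) hS Y (fun i => (Y i).hom) hcov
    (fun Z i j f g => (Over.w f).trans (Over.w g).symm)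
    (fun Z i j f g h => ⟨Over.mk (f ≫ (Y i).hom), 𝟙 Z, Over.homMk f rfl, Over.homMk g h.symm,
      Category.id_comp _, Category.id_comp _⟩)
    hH x fun i => hlift _ (hYT i)

/-- A basis of objects with enough covers stable under intersections. -/
structure Basis (J : GrothendieckTopology C) where
  B : C → Prop
  Cov : ∀ (U : C) (ι : Type w), (ι → Over U) → Prop
  mem : ∀ (U : C) (ι : Type w) (Y : ι → Over U), Cov U ι Y →
    Sieve.ofArrows (fun i => (Y i).left) (fun i => (Y i).hom) ∈ J U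
  inter : ∀ (U : C) (ι : Type w) (Y : ι → Over U), Cov U ι Y →
    ∀ (p : ℕ) (a : Fin (p + 1) → ι), B (Cech.inter Y a).left
  refine_ : ∀ U, B U → ∀ T ∈ J U, ∃ (ι : Type w) (Y : ι → Over U), Cov U ι Y ∧ ∀ i, T.arrows (Y i).hom

/-- Sheaves acyclic for the chosen coverings. -/
def Basis.Acyclic (𝔅 : Basis.{w} J) (F : Sheaf J AddCommGrpCat.{w}) : Prop :=
  ∀ (U : C) (ι : Type w) (Y : ι → Over U), 𝔅.Cov U ι Y → ∀ p : ℕ,
    IsZero ((Cech.cx (pullPsh (Over.forget U) F) Y).homology (p + 1))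

variable (𝔅 : Basis.{w} J) {S : ShortComplex (Sheaf J AddCommGrpCat.{w})}

theorem Basis.surjective_sections (hS : S.ShortExact) (h₁ : 𝔅.Acyclic S.X₁) {U : C} (hU : 𝔅.B U) :
    Function.Surjective (S.g.hom.app (op U)) :=
  surjective_sections_of_cech hS U fun T hT => by
    obtain ⟨ι, Y, hY, hYT⟩ := 𝔅.refine_ U hU T hT
    exact ⟨ι, Y, hYT, 𝔅.mem U ι Y hY, h₁ U ι Y hY 0⟩

theorem Basis.acyclic_X₃ (hS : S.ShortExact) (h₁ : 𝔅.Acyclic S.X₁) (h₂ : 𝔅.Acyclic S.X₂) :
    𝔅.Acyclic S.X₃ := fun U ι Y hY p =>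
  isZero_cech_X₃ (Over.forget U) hS Y
    (fun a => 𝔅.surjective_sections hS h₁ (𝔅.inter U ι Y hY _ a)) p (h₂ U ι Y hY p) (h₁ U ι Y hY (p + 1))

theorem Basis.acyclic_of_injective [LocallySmall.{w} C] (I : Sheaf J AddCommGrpCat.{w}) [Injective I] :
    𝔅.Acyclic I := fun U ι Y _ p =>
  haveI := injective_obj I
  EtCechLib.isZero_homology_of_injective Y I.obj p

variable [LocallySmall.{w} C] [EnoughInjectives (Sheaf J AddCommGrpCat.{w})] [HasExt.{w'} (Sheaf J AddCommGrpCat.{w})]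

/-- The Cartan criterion. -/
theorem Basis.subsingleton_ext {X : Sheaf J AddCommGrpCat.{w}}
    (hX : ∀ {F F' : Sheaf J AddCommGrpCat.{w}} (g : F ⟶ F'),
      (∀ U, 𝔅.B U → Function.Surjective (g.hom.app (op U))) → ∀ a : X ⟶ F', ∃ b, b ≫ g = a)
    {F : Sheaf J AddCommGrpCat.{w}} (hF : 𝔅.Acyclic F) (n : ℕ) : Subsingleton (Ext.{w'} X F (n + 1)) :=
  subsingleton_ext_of_class 𝔅.Acyclic (fun Y => Y = X)
    (fun G hG => ⟨_, _, _, _, (injEmbed G).zero, inferInstanceAs (Injective (Injective.under G)),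
      injEmbed_shortExact G,
      (haveI : Injective (injEmbed G).X₂ := inferInstanceAs (Injective (Injective.under G))
       𝔅.acyclic_X₃ (injEmbed_shortExact G) hG (𝔅.acyclic_of_injective _)),
      fun _ hY => hY ▸ hX (injEmbed G).g (fun U hU => 𝔅.surjective_sections (injEmbed_shortExact G) hG hU)⟩)
    (X := X) rfl hF n

omit [∀ U : C, HasFiniteProducts (Over U)] [EnoughInjectives (Sheaf J AddCommGrpCat.{w})] [LocallySmall.{w} C] [HasExt.{w'} (Sheaf J AddCommGrpCat.{w})] in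
/-- Maps out of a constant sheaf lift along maps surjective on global sections. -/
theorem exists_lift_const {T : C} (hT : IsTerminal T) {F F' : Sheaf J AddCommGrpCat.{w}} (g : F ⟶ F')
    (hg : Function.Surjective (g.hom.app (op T)))
    (a : (constantSheaf J AddCommGrpCat.{w}).obj (AddCommGrpCat.of (ULift.{w} ℤ)) ⟶ F') : ∃ b, b ≫ g = a := by
  let adj := constantSheafAdj J AddCommGrpCat.{w} hT
  let a' : AddCommGrpCat.of (ULift.{w} ℤ) ⟶ F'.obj.obj (op T) := adj.homEquiv _ _ a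
  obtain ⟨y, hy⟩ := hg (a' (ULift.up 1))
  let b' : AddCommGrpCat.of (ULift.{w} ℤ) ⟶ F.obj.obj (op T) :=
    AddCommGrpCat.ofHom (uliftZMultiplesHom _ y)
  refine ⟨(adj.homEquiv _ _).symm b', (adj.homEquiv _ _).injective ?_⟩
  rw [Adjunction.homEquiv_naturality_right, Equiv.apply_symm_apply]
  show b' ≫ g.hom.app (op T) = a'
  refine AddCommGrpCat.hom_ext ((uliftZMultiplesHom _).symm.injective ?_)
  show g.hom.app (op T) ((1 : ℤ) • y) = a' (ULift.up 1)
  rw [one_zsmul, hy]

end Cartan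

end Groth.Agent.EtCechLib
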