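import Groth.Prelude.Def_EtBase
import Groth.Prelude.Def_EtCech
import Mathlib.CategoryTheory.Limits.Preserves.Shapes.Over
import Groth.Agent.EtCechLib.Cartan
import Groth.Agent.EtCechLib.Transfer
import Groth.Agent.HenselLib.KummerSheaf

/-!
# Čech cohomology on the small étale site
-/

set_option autoImplicit false
set_option linter.all false
set_option backward.isDefEq.respectTransparency.types false
set_option backward.isDefEq.respectTransparency false
set_option synthInstance.maxHeartbeats 400000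

universe u

open CategoryTheory CategoryTheory.Limits AlgebraicGeometry Opposite
open Groth.Agent.SiteCoh

namespace Groth.Agent.EtCechLib

variable {X Y : Scheme.{u}}

theorem exists_mem_of_mem {W : X.Etale} {R : Sieve W} (hR : R ∈ X.smallEtaleTopology W) (x : W.left) :
    ∃ (Z : X.Etale) (f : Z ⟶ W), R f ∧ x ∈ Set.range f.left := by
  have e : Sieve.ofArrows (fun p : Σ Z : X.Etale, {f : Z ⟶ W // R f} => p.1) (fun p => p.2.1) = R := by
    ext Z f
    rw [Sieve.mem_ofArrows_iff]
    exact ⟨fun ⟨p, a, h⟩ => h ▸ R.downward_closed p.2.2 a, fun h => ⟨⟨Z, f, h⟩, 𝟙 _, (Category.id_comp f).symm⟩⟩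
  have h := (Scheme.ofArrows_mem_smallEtaleTopology_iff _).mp (e.symm ▸ hR :
    Sieve.ofArrows (fun p : Σ Z : X.Etale, {f : Z ⟶ W // R f} => p.1) (fun p => p.2.1) ∈ X.smallEtaleTopology W)
  obtain ⟨p, hp⟩ := Set.mem_iUnion.mp (h.symm ▸ Set.mem_univ x :
    x ∈ ⋃ p : Σ Z : X.Etale, {f : Z ⟶ W // R f}, Set.range p.2.1.left)
  exact ⟨p.1, p.2.1, p.2.2, hp⟩

/-- A jointly surjective family. -/
def JointlySurj (U : X.Etale) {ι : Type (u + 1)} (Uf : ι → Over U) : Prop :=
  ∀ x : ↥(U.left), ∃ (i : ι) (y : ↥((Uf i).left.left)), (Uf i).hom.left.base y = x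

theorem JointlySurj.mem {U : X.Etale} {ι : Type (u + 1)} {Uf : ι → Over U} (h : JointlySurj U Uf) :
    Sieve.ofArrows (fun i => (Uf i).left) (fun i => (Uf i).hom) ∈ X.smallEtaleTopology U :=
  HenselLib.Kummer.mem_of_points U _ fun x => by
    obtain ⟨i, y, hy⟩ := h x
    exact ⟨(Uf i).left, (Uf i).hom, y, Sieve.ofArrows_mk _ _ i, hy⟩

variable [∀ U : X.Etale, HasFiniteProducts (Over U)]

/-- All objects, with all jointly surjective families. -/
noncomputable def allBasis (X : Scheme.{u}) [∀ U : X.Etale, HasFiniteProducts (Over U)] :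
    Basis.{u + 1} X.smallEtaleTopology where
  B _ := True
  Cov U ι Uf := JointlySurj U Uf
  mem U ι Uf h := h.mem
  inter _ _ _ _ _ _ := trivial
  refine_ U _ T hT := by
    choose Z f hf hx using fun x : U.left => exists_mem_of_mem hT x
    refine ⟨ULift.{u + 1} U.left, fun x => Over.mk (f x.down), fun x => ?_, fun x => hf x.down⟩
    obtain ⟨y, hy⟩ := hx x
    exact ⟨⟨x⟩, y, hy⟩

theorem isZero_cechH_of_injective (I : EtCoh.Ab X) [Injective I] {U : X.Etale} {ι : Type (u + 1)}
    (Uf : ι → Over U) (p : ℕ) : IsZero (EtCech.cechH Uf I.obj (p + 1)) := by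
  haveI := injective_obj I
  exact EtCechLib.isZero_homology_of_injective Uf I.obj p

variable [∀ V : Y.Etale, HasFiniteProducts (Over V)]

/-- Čech vanishing passes to direct images. -/
theorem isZero_cechH_push (f : X ⟶ Y) (F : EtCoh.Ab X) (V : Y.Etale) {ι : Type (u + 1)} (Vf : ι → Over V)
    (hV : JointlySurj V Vf)
    (hF : JointlySurj ((EtCoh.bc f).obj V) (fun i => (Over.post (X := V) (EtCoh.bc f)).obj (Vf i)) → ∀ p,
      IsZero (EtCech.cechH (fun i => (Over.post (X := V) (EtCoh.bc f)).obj (Vf i)) F.obj (p + 1)))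
    (p : ℕ) : IsZero (EtCech.cechH Vf ((EtCoh.push f).obj F).obj (p + 1)) := by
  have hS : JointlySurj ((EtCoh.bc f).obj V) (fun i => (Over.post (X := V) (EtCoh.bc f)).obj (Vf i)) := by
    intro x
    obtain ⟨i, y, hy⟩ := hV ((pullback.fst V.hom f : ((EtCoh.bc f).obj V).left ⟶ V.left) x)
    obtain ⟨z, -, hz⟩ := Scheme.exists_preimage_of_isPullback (EtCoh.isPullback_bc_map f (Vf i).hom).flip
      y x hy
    exact ⟨i, z, hz⟩
  exact isZero_homology_comp (Over.post (X := V) (EtCoh.bc f))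
    ((Over.forget ((EtCoh.bc f).obj V)).op ⋙ F.obj) Vf p (hF hS p)

end Groth.Agent.EtCechLib
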