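import Groth.Agent.EtCechLib.Etale
import Groth.Prelude.Def_EtCore
import Groth.Agent.Et18.FilteredSections
import Groth.Agent.CohColim.Ext
import Mathlib.CategoryTheory.Limits.Constructions.FiniteProductsOfBinaryProducts
import Mathlib.CategoryTheory.Limits.Constructions.Over.Products

/-!
# Étale cohomology of qcqs schemes commutes with filtered colimits
-/

set_option autoImplicit false
set_option linter.all false
set_option backward.isDefEq.respectTransparency.types false
set_option backward.isDefEq.respectTransparency false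
set_option synthInstance.maxHeartbeats 400000
set_option maxHeartbeats 1000000

universe u

open CategoryTheory CategoryTheory.Limits CategoryTheory.Abelian AlgebraicGeometry Opposite
open Groth.Agent.SiteCoh

namespace Groth.Agent.EtCechLib

variable {X : Scheme.{u}}

/-- Quasi-compact and quasi-separated objects of the small étale site. -/
def IsQcqs (U : X.Etale) : Prop := CompactSpace U.left ∧ QuasiSeparatedSpace U.left

theorem isQcqs_of_iso {U V : X.Etale} (e : U ≅ V) (h : IsQcqs U) : IsQcqs V := by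
  obtain ⟨_, _⟩ := h
  let f : V.left ⟶ U.left := e.inv.left
  haveI : IsIso f := inferInstanceAs (IsIso ((Scheme.Etale.forget X ⋙ CategoryTheory.Over.forget X).map e.inv))
  exact ⟨QuasiCompact.compactSpace_of_compactSpace (Y := U.left) f,
    quasiSeparatedSpace_of_quasiSeparated (Y := U.left) f⟩

theorem isQcqs_prod {U : X.Etale} (hU : IsQcqs U) {A B : Over U} (hA : IsQcqs A.left) (hB : IsQcqs B.left)
    {c : BinaryFan A B} (hc : IsLimit c) : IsQcqs c.pt.left := by
  obtain ⟨_, _⟩ := hU
  obtain ⟨_, _⟩ := hA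
  obtain ⟨_, _⟩ := hB
  haveI : QuasiSeparatedSpace U.left := inferInstance
  haveI : QuasiCompact B.hom.left := quasiCompact_of_compactSpace _
  haveI : QuasiSeparated B.hom.left := QuasiSeparated.of_quasiSeparatedSpace _
  have h := (Over.isPullback_of_binaryFan_isLimit c hc).map
    (Scheme.Etale.forget X ⋙ CategoryTheory.Over.forget X)
  haveI h1 : QuasiCompact c.fst.left.left := MorphismProperty.of_isPullback (P := @QuasiCompact) h.flip
    (inferInstanceAs (QuasiCompact B.hom.left))
  haveI h2 : QuasiSeparated c.fst.left.left := MorphismProperty.of_isPullback (P := @QuasiSeparated) h.flip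
    (inferInstanceAs (QuasiSeparated B.hom.left))
  exact ⟨QuasiCompact.compactSpace_of_compactSpace (Y := A.left.left) c.fst.left.left,
    quasiSeparatedSpace_of_quasiSeparated (Y := A.left.left) c.fst.left.left⟩

theorem isQcqs_fan {U : X.Etale} (hU : IsQcqs U) : ∀ {n : ℕ} (f : Fin n → Over U),
    (∀ k, IsQcqs (f k).left) → ∀ {c : Fan f}, IsLimit c → IsQcqs c.pt.left := by
  intro n
  induction n with
  | zero =>
    intro f _ c hc
    have hT : IsTerminal c.pt := IsTerminal.ofUniqueHom
      (fun Z => hc.lift (Fan.mk Z (fun k => Fin.elim0 k)))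
      (fun Z m => hc.hom_ext fun ⟨k⟩ => Fin.elim0 k)
    exact isQcqs_of_iso ((Over.forget U).mapIso (Over.mkIdTerminal.uniqueUpToIso hT)) hU
  | succ n ih =>
    intro f hf c hc
    haveI : HasPullbacks X.Etale := inferInstance
    let c₁ : Fan fun i : Fin n => f i.succ := Fan.mk _ (Pi.π fun i : Fin n => f i.succ)
    let t₁ : IsLimit c₁ := productIsProduct _
    let t₂ := prodIsProd (f 0) c₁.pt
    have h₁ := ih _ (fun k => hf k.succ) t₁
    have h₂ := isQcqs_prod hU (hf 0) h₁ t₂
    exact isQcqs_of_iso ((Over.forget U).mapIso ((extendFanIsLimit f t₁ t₂).conePointUniqueUpToIso hc)) h₂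

theorem exists_affine_family {U : X.Etale} [CompactSpace U.left] {T : Sieve U}
    (hT : T ∈ X.smallEtaleTopology U) :
    ∃ (ι : Type (u + 1)) (_ : Finite ι) (Y : ι → Over U), (∀ i, IsQcqs (Y i).left) ∧ JointlySurj U Y ∧
      ∀ i, T.arrows (Y i).hom := by
  choose Z f hf z hz using fun x : U.left => exists_mem_of_mem hT x
  choose O hO hzO _ using fun x : U.left => exists_isAffineOpen_mem_and_subset (X := (Z x).left)
    (x := z x) (U := ⊤) trivial
  haveI : ∀ x, Etale (Z x).hom := fun x => (Z x).prop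
  let W : U.left → X.Etale := fun x => Scheme.Etale.mk ((O x).ι ≫ (Z x).hom)
  let g : ∀ x, W x ⟶ U := fun x =>
    (MorphismProperty.Over.homMk (O x).ι rfl trivial : W x ⟶ Z x) ≫ f x
  have hg : ∀ x, IsOpen (Set.range (g x).left) := fun x => by
    haveI : Etale U.hom := U.prop
    haveI : Etale (W x).hom := (W x).prop
    haveI : Etale ((g x).left ≫ U.hom) := by
      have h : (g x).left ≫ U.hom = (W x).hom := CategoryTheory.Over.w (g x).hom
      exact h ▸ (W x).prop
    haveI := Etale.of_comp (g x).left U.hom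
    exact (g x).left.isOpenMap.isOpen_range
  obtain ⟨s, hs⟩ := isCompact_univ.elim_finite_subcover (fun x => Set.range (g x).left) hg
    (fun x _ => Set.mem_iUnion.2 ⟨x, ⟨⟨z x, hzO x⟩, hz x⟩⟩)
  refine ⟨ULift.{u + 1} s, inferInstance, fun i => Over.mk (g i.down.1), fun i => ?_, fun x => ?_,
    fun i => T.downward_closed (hf i.down.1) _⟩
  · haveI : IsAffine (W i.down.1).left := hO i.down.1
    exact ⟨inferInstanceAs (CompactSpace (W i.down.1).left),
      inferInstanceAs (QuasiSeparatedSpace (W i.down.1).left)⟩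
  · obtain ⟨a, ha, y, hy⟩ := Set.mem_iUnion₂.1 (hs (Set.mem_univ x))
    exact ⟨⟨⟨a, ha⟩⟩, y, hy⟩

/-- qcqs objects with finite jointly surjective families of qcqs objects. -/
noncomputable def qcqsBasis (X : Scheme.{u}) [∀ U : X.Etale, HasFiniteProducts (Over U)] :
    Basis.{u + 1} X.smallEtaleTopology where
  B := IsQcqs
  Cov U ι Y := IsQcqs U ∧ Finite ι ∧ (∀ i, IsQcqs (Y i).left) ∧ JointlySurj U Y
  mem U ι Y h := h.2.2.2.mem
  inter U ι Y h p a := isQcqs_fan h.1 _ (fun k => h.2.2.1 (a k)) (productIsProduct _)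
  refine_ U hU T hT := by
    haveI := hU.1
    obtain ⟨ι, hι, Y, hY, hs, hm⟩ := exists_affine_family hT
    exact ⟨ι, Y, ⟨hU, hι, hY, hs⟩, hm⟩

variable {Λ : Type (u + 1)} [SmallCategory Λ] [IsFiltered Λ]

theorem exists_sect_stage {D : Λ ⥤ EtCoh.Ab X} (c : Cocone D) (hc : IsColimit c) {U : X.Etale}
    (hU : IsQcqs U) (s : c.pt.obj.obj (op U)) :
    ∃ (j : Λ) (t : (D.obj j).obj.obj (op U)), (c.ι.app j).hom.app (op U) t = s := by
  haveI := hU.1; haveI := hU.2
  haveI := Et18.preservesColimitsOfShape_sect (X := X) U (J := Λ)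
  exact Concrete.isColimit_exists_rep _ (isColimitOfPreserves
    (sheafToPresheaf X.smallEtaleTopology AddCommGrpCat.{u + 1} ⋙
      (evaluation X.Etaleᵒᵖ AddCommGrpCat.{u + 1}).obj (op U)) hc) s

theorem exists_sect_eq {D : Λ ⥤ EtCoh.Ab X} (c : Cocone D) (hc : IsColimit c) {U : X.Etale}
    (hU : IsQcqs U) {j : Λ} (t : (D.obj j).obj.obj (op U)) (ht : (c.ι.app j).hom.app (op U) t = 0) :
    ∃ (k : Λ) (a : j ⟶ k), (D.map a).hom.app (op U) t = 0 := by
  haveI := hU.1; haveI := hU.2
  haveI := Et18.preservesColimitsOfShape_sect (X := X) U (J := Λ)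
  haveI : PreservesColimitsOfShape Λ (forget AddCommGrpCat.{u + 1}) :=
    PreservesFilteredColimitsOfSize.preserves_filtered_colimits Λ
  obtain ⟨k, f, g, h⟩ := Concrete.isColimit_exists_of_rep_eq _ (isColimitOfPreserves
    (sheafToPresheaf X.smallEtaleTopology AddCommGrpCat.{u + 1} ⋙
      (evaluation X.Etaleᵒᵖ AddCommGrpCat.{u + 1}).obj (op U)) hc) t (0 : (D.obj j).obj.obj (op U))
      (ht.trans (map_zero _).symm)
  exact ⟨k, f, h.trans (map_zero _)⟩

variable [∀ U : X.Etale, HasFiniteProducts (Over U)]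

/-- A filtered colimit of Čech acyclic sheaves is Čech acyclic on finite qcqs coverings. -/
theorem acyclic_colimit {D : Λ ⥤ EtCoh.Ab X} (c : Cocone D) (hc : IsColimit c)
    (hD : ∀ i, (qcqsBasis X).Acyclic (D.obj i)) : (qcqsBasis X).Acyclic c.pt := by
  classical
  intro U ι Y hY p
  haveI : Finite ι := hY.2.1
  have hin : ∀ {q : ℕ} (a : Fin (q + 1) → ι), IsQcqs (Cech.inter Y a).left :=
    fun a => (qcqsBasis X).inter U ι Y hY _ a
  rw [Cech.isZero_homology_succ_iff]
  intro x hx
  choose j t ht using fun a => exists_sect_stage c hc (hin a)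
    (Cech.ev (pullPsh (Over.forget U) c.pt) Y a x)
  letI := Fintype.ofFinite ι
  obtain ⟨j₀, hj⟩ := IsFiltered.sup_objs_exists ((Finset.univ : Finset (Fin (p + 1 + 1) → ι)).image j)
  let m : ∀ a, j a ⟶ j₀ := fun a => (hj (Finset.mem_image_of_mem j (Finset.mem_univ a))).some
  let φ : ∀ i, pullPsh (Over.forget U) (D.obj i) ⟶ pullPsh (Over.forget U) c.pt := fun i =>
    Functor.whiskerLeft (Over.forget U).op (c.ι.app i).hom
  let ψ : ∀ {i k : Λ}, (i ⟶ k) → (pullPsh (Over.forget U) (D.obj i) ⟶ pullPsh (Over.forget U) (D.obj k)) :=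
    fun a => Functor.whiskerLeft (Over.forget U).op (D.map a).hom
  have hψ : ∀ {i k : Λ} (a : i ⟶ k) (q : ℕ) (z : (Cech.cx (pullPsh (Over.forget U) (D.obj i)) Y).X q),
      Cech.map Y (φ k) (Cech.map Y (ψ a) z) = Cech.map Y (φ i) z := fun {i k} a q z =>
    Cech.ext _ _ fun b => by
      rw [Cech.ev_map, Cech.ev_map, Cech.ev_map]
      exact ConcreteCategory.congr_hom (congrArg (fun h : D.obj i ⟶ c.pt => h.hom.app _) (c.w a)) _
  let z₀ : (Cech.cx (pullPsh (Over.forget U) (D.obj j₀)) Y).X (p + 1) :=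
    Cech.mk _ Y fun a => (D.map (m a)).hom.app _ (t a)
  have hz₀ : Cech.map Y (φ j₀) z₀ = x := Cech.ext _ _ fun a => by
    rw [Cech.ev_map, Cech.ev_mk]
    refine Eq.trans ?_ (ht a)
    exact ConcreteCategory.congr_hom (congrArg (fun h : D.obj (j a) ⟶ c.pt => h.hom.app _) (c.w (m a))) _
  let d₀ := (Cech.cx (pullPsh (Over.forget U) (D.obj j₀)) Y).d (p + 1) (p + 2) z₀
  have hd₀ : ∀ b, ∃ (k : Λ) (a : j₀ ⟶ k),
      (D.map a).hom.app (op (Cech.inter Y b).left) (Cech.ev _ Y b d₀) = 0 := fun b => by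
    refine exists_sect_eq c hc (hin b) _ ?_
    show (φ j₀).app (op (Cech.inter Y b)) _ = 0
    rw [← Cech.ev_map, Cech.map_d, hz₀, hx, map_zero]
  obtain ⟨k, a, hk⟩ := Et18.exists_stage (κ := Fin (p + 1 + 1 + 1) → ι)
    (fun b k a => (D.map a).hom.app (op (Cech.inter Y b).left) (Cech.ev _ Y b d₀) = 0)
    (fun b k a l e h => by rw [D.map_comp]; show (D.map e).hom.app _ ((D.map a).hom.app _ _) = 0; rw [h, map_zero])
    hd₀
  obtain ⟨y, hy⟩ := (Cech.isZero_homology_succ_iff _ Y p).1 (hD k U ι Y hY p) (Cech.map Y (ψ a) z₀) (by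
    rw [← Cech.map_d]
    exact Cech.ext _ _ fun b => by rw [Cech.ev_map, map_zero]; exact hk b)
  exact ⟨Cech.map Y (φ k) y, by rw [← Cech.map_d, hy, hψ, hz₀]⟩

omit [∀ U : X.Etale, HasFiniteProducts (Over U)] in
theorem preservesColimitsOfShape_HF [CompactSpace X] [QuasiSeparatedSpace X] (n : ℕ)
    (Λ : Type (u + 1)) [SmallCategory Λ] [IsFiltered Λ] :
    PreservesColimitsOfShape Λ (EtCoh.HF X n) := by
  haveI : ∀ U : X.Etale, HasFiniteProducts (Over U) := fun U => inferInstance
  have htop : IsQcqs (EtCoh.top X) := ⟨inferInstanceAs (CompactSpace X), inferInstanceAs (QuasiSeparatedSpace X)⟩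
  let Z := (constantSheaf X.smallEtaleTopology AddCommGrpCat.{u + 1}).obj (AddCommGrpCat.of (ULift.{u + 1} ℤ))
  have h : PreservesColimitsOfShape Λ ((extFunctor.{u + 1} n).obj (op Z)) := by
    refine CohColim.preservesColimitsOfShape_ext (fun D => ?_) (fun D hD p => ?_) n
    · let adj := EtCore.constAdj X
      let T := EtCoh.top X
      refine CohColim.extSurj_and_extInj_zero D (fun a => ?_) (fun i b hb => ?_)
      · let a' : AddCommGrpCat.of (ULift.{u + 1} ℤ) ⟶ (colimit D).obj.obj (op T) := adj.homEquiv _ _ a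
        obtain ⟨i, t, ht⟩ := exists_sect_stage (colimit.cocone D) (colimit.isColimit D) htop (a' (ULift.up 1))
        let t' : AddCommGrpCat.of (ULift.{u + 1} ℤ) ⟶ (D.obj i).obj.obj (op T) :=
          AddCommGrpCat.ofHom (uliftZMultiplesHom _ t)
        refine ⟨i, (adj.homEquiv _ _).symm t', (adj.homEquiv _ _).injective ?_⟩
        rw [Adjunction.homEquiv_naturality_right, Equiv.apply_symm_apply]
        show t' ≫ (colimit.ι D i).hom.app (op T) = a'
        refine AddCommGrpCat.hom_ext ((uliftZMultiplesHom _).symm.injective ?_)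
        show (colimit.ι D i).hom.app (op T) ((1 : ℤ) • t) = a' (ULift.up 1)
        rw [one_zsmul]
        exact ht
      · let b' : AddCommGrpCat.of (ULift.{u + 1} ℤ) ⟶ (D.obj i).obj.obj (op T) := adj.homEquiv _ _ b
        have h0 : b' ≫ (colimit.ι D i).hom.app (op T) = 0 := by
          have := congrArg (adj.homEquiv _ _) hb
          rw [Adjunction.homEquiv_naturality_right] at this
          refine this.trans ?_
          rw [Adjunction.homEquiv_unit]
          simp
        obtain ⟨k, f, hk⟩ := exists_sect_eq (colimit.cocone D) (colimit.isColimit D) htop (b' (ULift.up 1))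
          (ConcreteCategory.congr_hom h0 (ULift.up 1))
        refine ⟨k, f, (adj.homEquiv _ _).injective ?_⟩
        rw [Adjunction.homEquiv_naturality_right, Adjunction.homEquiv_unit (f := (0 : Z ⟶ D.obj k))]
        simp only [Functor.map_zero, comp_zero]
        show b' ≫ (D.map f).hom.app (op T) = 0
        refine AddCommGrpCat.hom_ext ((uliftZMultiplesHom _).symm.injective ?_)
        exact hk
    · exact (qcqsBasis X).subsingleton_ext
        (fun g hg a => exists_lift_const (EtCore.topIsTerminal X) g (hg _ htop) a)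
        (acyclic_colimit (colimit.cocone D) (colimit.isColimit D)
          (fun i => haveI := hD i; (qcqsBasis X).acyclic_of_injective (D.obj i))) p
  exact @preservesColimitsOfShape_of_natIso _ _ _ _ Λ _ ((extFunctor.{u + 1} n).obj (op Z)) (EtCoh.HF X n)
    (NatIso.ofComponents (fun F => Iso.refl _) (fun f => by ext; rfl)) h

end Groth.Agent.EtCechLib
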