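import Groth.Agent.SiteCoh.Cech
import Mathlib.Algebra.Category.Grp.Adjunctions
import Mathlib.Algebra.Homology.ShortComplex.Abelian
import Mathlib.CategoryTheory.Abelian.Injective.Basic
import Mathlib.CategoryTheory.Abelian.FunctorCategory
import Mathlib.Logic.Small.Defs
import Mathlib.CategoryTheory.EssentiallySmall
import Mathlib.CategoryTheory.Comma.Over.Basic

/-!
# Čech acyclicity of injective presheaves, for arbitrary universes
-/

set_option autoImplicit false
set_option linter.all false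
set_option backward.isDefEq.respectTransparency.types false
set_option backward.isDefEq.respectTransparency false

universe w v u

open CategoryTheory CategoryTheory.Limits Opposite
open Groth.Agent.SiteCoh

namespace Groth.Agent.EtCechLib

variable {C : Type u} [Category.{v} C] [LocallySmall.{w} C] {U : C} [HasFiniteProducts (Over U)]
  {ι : Type w} (W : ι → Over U)

/-- Indices of the free Čech presheaves. -/
abbrev Gen (p : ℕ) (Z : C) : Type w :=
  Σ a : Fin (p + 1) → ι, Shrink.{w} (Z ⟶ (Cech.inter W a).left)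

noncomputable def gen {p : ℕ} {Z : C} (a : Fin (p + 1) → ι) (f : Z ⟶ (Cech.inter W a).left) : Gen W p Z :=
  ⟨a, equivShrink _ f⟩

theorem exists_gen {p : ℕ} {Z : C} (t : Gen W p Z) :
    ∃ (a : Fin (p + 1) → ι) (f : Z ⟶ (Cech.inter W a).left), t = gen W a f :=
  ⟨t.1, (equivShrink _).symm t.2, Sigma.ext rfl (heq_of_eq (((equivShrink _).apply_symm_apply _).symm))⟩

noncomputable def genMap {p : ℕ} {Z Z' : C} (r : Z' ⟶ Z) (t : Gen W p Z) : Gen W p Z' :=
  gen W t.1 (r ≫ (equivShrink _).symm t.2)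

theorem genMap_gen {p : ℕ} {Z Z' : C} (r : Z' ⟶ Z) (a : Fin (p + 1) → ι) (f : Z ⟶ (Cech.inter W a).left) :
    genMap W r (gen W a f) = gen W a (r ≫ f) := by
  simp [genMap, gen]

/-- The free Čech presheaves. -/
noncomputable def N (p : ℕ) : Cᵒᵖ ⥤ AddCommGrpCat.{w} where
  obj Z := AddCommGrpCat.of (FreeAbelianGroup (Gen W p Z.unop))
  map r := AddCommGrpCat.ofHom (FreeAbelianGroup.map (genMap W r.unop))
  map_id Z := by
    refine AddCommGrpCat.hom_ext (FreeAbelianGroup.lift_ext _ _ fun t => ?_)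
    obtain ⟨a, f, rfl⟩ := exists_gen W t
    show FreeAbelianGroup.map _ (FreeAbelianGroup.of _) = FreeAbelianGroup.of (gen W a f)
    rw [FreeAbelianGroup.map_of_apply, genMap_gen]
    simp
  map_comp {A B D} g h := by
    refine AddCommGrpCat.hom_ext (FreeAbelianGroup.lift_ext _ _ fun t => ?_)
    obtain ⟨a, f, rfl⟩ := exists_gen W t
    show FreeAbelianGroup.map _ (FreeAbelianGroup.of _) =
      FreeAbelianGroup.map _ (FreeAbelianGroup.map _ (FreeAbelianGroup.of _))
    rw [FreeAbelianGroup.map_of_apply, FreeAbelianGroup.map_of_apply, FreeAbelianGroup.map_of_apply,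
      genMap_gen, genMap_gen, genMap_gen]
    simp [Category.assoc]

noncomputable def of {p : ℕ} {Z : C} (a : Fin (p + 1) → ι) (f : Z ⟶ (Cech.inter W a).left) :
    (N W p).obj (op Z) :=
  FreeAbelianGroup.of (gen W a f)

theorem N_map_of {p : ℕ} {Z Z' : C} (r : Z' ⟶ Z) (a : Fin (p + 1) → ι)
    (f : Z ⟶ (Cech.inter W a).left) : (N W p).map r.op (of W a f) = of W a (r ≫ f) := by
  show FreeAbelianGroup.map _ (FreeAbelianGroup.of _) = _
  rw [FreeAbelianGroup.map_of_apply]
  exact congrArg _ (genMap_gen W r a f)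

/-- A natural transformation out of a free Čech presheaf. -/
noncomputable def desc {p : ℕ} {Q : Cᵒᵖ ⥤ AddCommGrpCat.{w}}
    (φ : ∀ (Z : C) (a : Fin (p + 1) → ι), (Z ⟶ (Cech.inter W a).left) → Q.obj (op Z))
    (hφ : ∀ {Z Z' : C} (r : Z' ⟶ Z) a f, φ Z' a (r ≫ f) = Q.map r.op (φ Z a f)) : N W p ⟶ Q where
  app Z := AddCommGrpCat.ofHom (FreeAbelianGroup.lift fun t => φ Z.unop t.1 ((equivShrink _).symm t.2))
  naturality {A B} g := by
    refine AddCommGrpCat.hom_ext (FreeAbelianGroup.lift_ext _ _ fun t => ?_)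
    obtain ⟨a, f, rfl⟩ := exists_gen W t
    show FreeAbelianGroup.lift _ (FreeAbelianGroup.map _ (FreeAbelianGroup.of _)) =
      Q.map g (FreeAbelianGroup.lift _ (FreeAbelianGroup.of _))
    rw [FreeAbelianGroup.map_of_apply, genMap_gen, FreeAbelianGroup.lift_apply_of,
      FreeAbelianGroup.lift_apply_of]
    simp only [gen, Equiv.symm_apply_apply]
    exact hφ g.unop a f

theorem desc_of {p : ℕ} {Q : Cᵒᵖ ⥤ AddCommGrpCat.{w}}
    (φ : ∀ (Z : C) (a : Fin (p + 1) → ι), (Z ⟶ (Cech.inter W a).left) → Q.obj (op Z))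
    (hφ : ∀ {Z Z' : C} (r : Z' ⟶ Z) a f, φ Z' a (r ≫ f) = Q.map r.op (φ Z a f))
    {Z : C} (a : Fin (p + 1) → ι) (f : Z ⟶ (Cech.inter W a).left) :
    (desc W φ hφ).app (op Z) (of W a f) = φ Z a f := by
  show FreeAbelianGroup.lift _ (FreeAbelianGroup.of _) = _
  rw [FreeAbelianGroup.lift_apply_of]
  simp [gen]

/-- The differential on a generator. -/
noncomputable def dGen {p : ℕ} (Z : C) (a : Fin (p + 1 + 1) → ι) (f : Z ⟶ (Cech.inter W a).left) :
    (N W p).obj (op Z) :=
  ∑ j : Fin (p + 2), (-1 : ℤ) ^ (j : ℕ) • of W (a ∘ j.succAbove) (f ≫ (Cech.face W a j).left)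

theorem dGen_nat {p : ℕ} {Z Z' : C} (r : Z' ⟶ Z) (a : Fin (p + 1 + 1) → ι) (f : Z ⟶ (Cech.inter W a).left) :
    dGen W Z' a (r ≫ f) = (N W p).map r.op (dGen W Z a f) := by
  rw [dGen, dGen, map_sum]
  refine Finset.sum_congr rfl fun j _ => ?_
  rw [map_zsmul, N_map_of, Category.assoc]

/-- The differential of the free Čech presheaves. -/
noncomputable def dN (p : ℕ) : N W (p + 1) ⟶ N W p := desc W (dGen W) (dGen_nat W)

theorem dN_of {p : ℕ} {Z : C} (a : Fin (p + 2) → ι) (f : Z ⟶ (Cech.inter W a).left) :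
    (dN W p).app (op Z) (of W a f) = ∑ j : Fin (p + 2), (-1 : ℤ) ^ (j : ℕ) •
      of W (a ∘ j.succAbove) (f ≫ (Cech.face W a j).left) :=
  desc_of W (dGen W) (dGen_nat W) a f

/-- The generator given by a tuple of lifts of a morphism to the base. -/
noncomputable def tup {p : ℕ} {Z : C} (g : Z ⟶ U) (s : Fin (p + 1) → (i : ι) × (Over.mk g ⟶ W i)) :
    (N W p).obj (op Z) :=
  of W (fun k => (s k).1) (Pi.lift (f := fun k => W (s k).1) fun k => (s k).2).left

noncomputable def pick {p : ℕ} {Z : C} (g : Z ⟶ U) (s : Fin (p + 1) → (i : ι) × (Over.mk g ⟶ W i)) :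
    (i : ι) × (Over.mk g ⟶ W i) :=
  @Classical.choice _ (⟨s 0⟩ : Nonempty ((i : ι) × (Over.mk g ⟶ W i)))

noncomputable def tuple {p : ℕ} {Z : C} (a : Fin (p + 1) → ι) (f : Z ⟶ (Cech.inter W a).left) {g : Z ⟶ U}
    (e : f ≫ (Cech.inter W a).hom = g) : Fin (p + 1) → (i : ι) × (Over.mk g ⟶ W i) :=
  fun k => ⟨a k, (Over.homMk f e : Over.mk g ⟶ Cech.inter W a) ≫ Pi.π (fun k => W (a k)) k⟩

theorem of_eq_tup {p : ℕ} {Z : C} (a : Fin (p + 1) → ι) (f : Z ⟶ (Cech.inter W a).left) {g : Z ⟶ U}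
    (e : f ≫ (Cech.inter W a).hom = g) : of W a f = tup W g (tuple W a f e) := by
  have : Pi.lift (f := fun k => W (a k)) (fun k => (tuple W a f e k).2) =
      (Over.homMk f e : Over.mk g ⟶ Cech.inter W a) := Pi.hom_ext _ _ fun k => by simp [tuple]
  show of W a f = of W a (Pi.lift (f := fun k => W (a k)) (fun k => (tuple W a f e k).2)).left
  rw [this]
  rfl

/-- The homotopy. -/
noncomputable def cone (p : ℕ) (Z : C) : (N W p).obj (op Z) →+ (N W (p + 1)).obj (op Z) :=
  FreeAbelianGroup.lift fun t =>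
    tup W ((equivShrink _).symm t.2 ≫ (Cech.inter W t.1).hom)
      (Fin.cons (pick W _ (tuple W t.1 _ rfl)) (tuple W t.1 _ rfl))

theorem cone_tup {p : ℕ} {Z : C} (g : Z ⟶ U) (s : Fin (p + 1) → (i : ι) × (Over.mk g ⟶ W i)) :
    cone W p Z (tup W g s) = tup W g (Fin.cons (pick W g s) s) := by
  have key : ∀ (a : Fin (p + 1) → ι) (f : Z ⟶ (Cech.inter W a).left) (g : Z ⟶ U)
      (e : f ≫ (Cech.inter W a).hom = g), cone W p Z (of W a f) =
        tup W g (Fin.cons (pick W g (tuple W a f e)) (tuple W a f e)) := by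
    intro a f g e
    subst e
    show FreeAbelianGroup.lift _ (FreeAbelianGroup.of _) = _
    rw [FreeAbelianGroup.lift_apply_of]
    simp only [gen]
    exact congrArg (fun f' => tup W (f' ≫ (Cech.inter W a).hom)
      (Fin.cons (pick W _ (tuple W a f' rfl)) (tuple W a f' rfl))) ((equivShrink _).symm_apply_apply f)
  let l : Over.mk g ⟶ Cech.inter W (fun k => (s k).1) :=
    Pi.lift (f := fun k => W (s k).1) fun k => (s k).2
  have hs : tuple W (fun k => (s k).1) l.left (Over.w l) = s := funext fun k => by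
    refine Sigma.ext rfl (heq_of_eq ?_)
    show (Over.homMk l.left _ : Over.mk g ⟶ _) ≫ _ = _
    have : (Over.homMk l.left (Over.w l) : Over.mk g ⟶ Cech.inter W (fun k => (s k).1)) = l := by
      ext; rfl
    rw [this]
    exact Pi.lift_π _ _
  exact (key _ l.left g (Over.w l)).trans (by rw [hs])

theorem dN_tup {p : ℕ} {Z : C} (g : Z ⟶ U) (s : Fin (p + 2) → (i : ι) × (Over.mk g ⟶ W i)) :
    (dN W p).app (op Z) (tup W g s) = ∑ j : Fin (p + 2), (-1 : ℤ) ^ (j : ℕ) • tup W g (s ∘ j.succAbove) := by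
  refine (dN_of W _ _).trans (Finset.sum_congr rfl fun j _ => ?_)
  refine congrArg (fun z => (-1 : ℤ) ^ (j : ℕ) • z) ?_
  show of W _ _ = of W _ _
  rw [← Over.comp_left]
  refine congrArg (fun m : Over.mk g ⟶ Cech.inter W ((fun k => (s k).1) ∘ j.succAbove) =>
    of W ((fun k => (s k).1) ∘ j.succAbove) m.left) ?_
  refine Pi.hom_ext _ _ fun k => ?_
  simp [Cech.face]

theorem dN_cone_add {p : ℕ} {Z : C} (x : (N W (p + 1)).obj (op Z)) :
    (dN W (p + 1)).app (op Z) (cone W (p + 1) Z x) + cone W p Z ((dN W p).app (op Z) x) = x := by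
  let φ : (N W (p + 1)).obj (op Z) →+ (N W (p + 1)).obj (op Z) :=
    ((dN W (p + 1)).app (op Z)).hom.comp (cone W (p + 1) Z) + (cone W p Z).comp ((dN W p).app (op Z)).hom
  suffices φ = AddMonoidHom.id _ from DFunLike.congr_fun this x
  refine FreeAbelianGroup.lift_ext _ _ fun t => ?_
  obtain ⟨a, f, rfl⟩ := exists_gen W t
  show (dN W (p + 1)).app (op Z) (cone W (p + 1) Z (of W a f)) +
    cone W p Z ((dN W p).app (op Z) (of W a f)) = of W a f
  rw [of_eq_tup W a f rfl]
  generalize tuple W a f rfl = s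
  rw [cone_tup, dN_tup, dN_tup, map_sum, Fin.sum_univ_succ]
  simp only [Fin.val_zero, pow_zero, one_zsmul]
  have e₀ : (Fin.cons (pick W _ s) s : Fin (p + 3) → _) ∘ (0 : Fin (p + 3)).succAbove = s :=
    funext fun k => by simp
  rw [e₀, add_assoc, ← Finset.sum_add_distrib]
  refine (add_eq_left).2 (Finset.sum_eq_zero fun j _ => ?_)
  have e₂ : (Fin.cons (pick W _ s) s : Fin (p + 3) → _) ∘ j.succ.succAbove =
      Fin.cons (pick W _ s) (s ∘ j.succAbove) := funext fun k => by
    cases k using Fin.cases <;> simp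
  rw [e₂, map_zsmul, cone_tup, Fin.val_succ, pow_succ', neg_one_mul, neg_smul]
  exact neg_add_cancel _

/-- The Čech cohomology of an injective presheaf vanishes in positive degrees. -/
theorem isZero_homology_of_injective (I : Cᵒᵖ ⥤ AddCommGrpCat.{w}) [Injective I] (p : ℕ) :
    IsZero ((Cech.cx ((Over.forget U).op ⋙ I) W).homology (p + 1)) := by
  let P := (Over.forget U).op ⋙ I
  rw [Cech.isZero_homology_succ_iff]
  intro x hx
  let xb : N W (p + 1) ⟶ I := desc W (fun Z a f => I.map f.op (Cech.ev P W a x)) fun r a f => by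
    rw [op_comp, Functor.map_comp]
    rfl
  have hxb : ∀ (Z : C) (z : (N W (p + 1 + 1)).obj (op Z)),
      xb.app (op Z) ((dN W (p + 1)).app (op Z) z) = 0 := by
    intro Z z
    let φ : (N W (p + 1 + 1)).obj (op Z) →+ I.obj (op Z) := (xb.app (op Z)).hom.comp ((dN W (p + 1)).app (op Z)).hom
    suffices φ = 0 from DFunLike.congr_fun this z
    refine FreeAbelianGroup.lift_ext _ _ fun t => ?_
    obtain ⟨a, f, rfl⟩ := exists_gen W t
    show xb.app (op Z) ((dN W (p + 1)).app (op Z) (of W a f)) = 0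
    rw [of_eq_tup W a f rfl]
    generalize tuple W a f rfl = s
    rw [dN_tup, map_sum]
    have hv := Cech.val_d P W x s
    rw [hx] at hv
    refine Eq.trans (Finset.sum_congr rfl fun j _ => ?_) (hv.symm.trans (by simp [Cech.val]))
    rw [map_zsmul]
    exact congrArg (fun z => (-1 : ℤ) ^ (j : ℕ) • z) (desc_of W _ _ _ _)
  let S : ShortComplex (Cᵒᵖ ⥤ AddCommGrpCat.{w}) :=
    ShortComplex.mk (kernel.ι (dN W p)) (dN W p) (kernel.condition _)
  have hk : kernel.ι (dN W p) ≫ xb = 0 := by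
    refine NatTrans.ext (funext fun Z => AddCommGrpCat.hom_ext (AddMonoidHom.ext fun k => ?_))
    have h0 : (dN W p).app Z ((kernel.ι (dN W p)).app Z k) = 0 :=
      ConcreteCategory.congr_hom (NatTrans.congr_app (kernel.condition (dN W p)) Z) k
    show xb.app Z ((kernel.ι (dN W p)).app Z k) = 0
    generalize (kernel.ι (dN W p)).app Z k = z at h0 ⊢
    have h1 := dN_cone_add W (p := p) (Z := Z.unop) z
    erw [h0] at h1
    rw [map_zero, add_zero] at h1
    rw [← h1]
    exact hxb _ _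
  have hS : S.Exact := ShortComplex.exact_of_f_is_kernel _ (kernelIsKernel (dN W p))
  let ψ : N W p ⟶ I := hS.descToInjective xb hk
  have hψ : dN W p ≫ ψ = xb := hS.comp_descToInjective xb hk
  refine ⟨Cech.mk P W fun a => ψ.app (op (Cech.inter W a).left) (of W a (𝟙 _)), Cech.ext P W fun a => ?_⟩
  rw [Cech.ev_d]
  have h1 : xb.app (op (Cech.inter W a).left) (of W a (𝟙 _)) = Cech.ev P W a x := by
    refine (desc_of W _ _ _ _).trans ?_
    simp
  rw [← h1, ← hψ, NatTrans.comp_app, ConcreteCategory.comp_apply, dN_of, map_sum]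
  refine Finset.sum_congr rfl fun j _ => ?_
  rw [map_zsmul, Cech.ev_mk]
  refine congrArg (fun z => (-1 : ℤ) ^ (j : ℕ) • z) ?_
  show I.map (Cech.face W a j).left.op _ = _
  rw [← NatTrans.naturality_apply, N_map_of]
  simp

end Groth.Agent.EtCechLib
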