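import Groth.Prelude.Def_EtCech
import Groth.Prelude.Def_DeltaF
import Groth.Agent.EtCechLib.Inj
import Groth.Agent.CommAlg4.DeltaUniversal
import Groth.Agent.SpecSeq.Bicomplex
import Groth.Agent.S16463
import Groth.Agent.S16465
import Mathlib.Algebra.Homology.HomologySequenceLemmas

/-!
# Čech cohomology of presheaves as derived functors
-/

set_option autoImplicit false
set_option linter.all false
set_option backward.isDefEq.respectTransparency.types false
set_option backward.isDefEq.respectTransparency false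

universe w v u v' u'

open CategoryTheory CategoryTheory.Limits Opposite
open Groth.Agent.SiteCoh

noncomputable section

namespace Groth.Agent.EtCechLib

section Generic

variable {A : Type u} [Category.{v} A] [Abelian A] {B : Type u'} [Category.{v'} B] [Abelian B]
  (K : A ⥤ CochainComplex B ℕ) [K.Additive]

/-- The delta functor of the homology of an exact functor to cochain complexes. -/
def homologyDelta (hK : ∀ S : ShortComplex A, S.ShortExact → (S.map K).ShortExact) :
    DeltaF.CohDeltaFunctor A B ℕ where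
  F n := K ⋙ HomologicalComplex.homologyFunctor B (ComplexShape.up ℕ) n
  additive n := inferInstance
  δ S hS i j h := (hK S hS).δ i j h
  δ_natural {S S'} hS hS' φ i j h :=
    (HomologicalComplex.HomologySequence.δ_naturality (K.mapShortComplex.map φ) (hK S hS) (hK S' hS') i j h).symm
  exact₂ S hS n := (hK S hS).homology_exact₂ n
  comp_δ S hS i j h := (hK S hS).comp_δ i j h
  exact₃ S hS i j h := (hK S hS).homology_exact₃ i j h
  δ_comp S hS i j h := (hK S hS).δ_comp i j h
  exact₁ S hS i j h := (hK S hS).homology_exact₁ i j h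

/-- Homology of an exact functor with acyclic injectives is the derived functor of the degree zero part. -/
theorem nonempty_homology_iso_rightDerived [HasInjectiveResolutions A]
    [(K ⋙ HomologicalComplex.homologyFunctor B (ComplexShape.up ℕ) 0).Additive]
    (hK : ∀ S : ShortComplex A, S.ShortExact → (S.map K).ShortExact)
    (hI : ∀ (I : A), Injective I → ∀ n : ℕ, IsZero ((K.obj I).homology (n + 1))) (p : ℕ) :
    Nonempty (K ⋙ HomologicalComplex.homologyFunctor B (ComplexShape.up ℕ) p ≅
      (K ⋙ HomologicalComplex.homologyFunctor B (ComplexShape.up ℕ) 0).rightDerived p) := by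
  haveI := SpecSeq.enoughInjectives_of_hasInjectiveResolutions A
  let G := K ⋙ HomologicalComplex.homologyFunctor B (ComplexShape.up ℕ) 0
  let T := homologyDelta K hK
  have hT : T.IsUniversal := CommAlg4.DeltaUniversal.isUniversal fun n X =>
    ⟨Injective.under X, Injective.ι X, inferInstance, (hI _ inferInstance n).eq_of_tgt _ _⟩
  haveI : PreservesFiniteLimits G := by
    have h1 : ∀ S : ShortComplex A, S.ShortExact → (S.map G).Exact ∧ Mono (G.map S.f) := fun S hS =>
      ⟨(hK S hS).homology_exact₂ 0, by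
        haveI := (hK S hS).mono_f
        haveI : Mono ((K.map S.f).f 0) := inferInstanceAs (Mono ((S.map K).f.f 0))
        exact HomologicalComplex.mono_homologyMap_of_mono_of_not_rel (K.map S.f) 0
          (fun i hi => by simp at hi)⟩
    exact (List.TFAE.out G.preservesFiniteLimits_tfae 0 3).1 h1
  obtain ⟨Δ⟩ := Groth.Agent.S16463.result G
  have hT' : Δ.toCohDeltaFunctor.IsUniversal := Groth.Agent.S16465.result G Δ
  let e₀ : T.F 0 ≅ Δ.toCohDeltaFunctor.F 0 := G.rightDerivedZeroIsoSelf.symm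
  obtain ⟨τ, hτ, -⟩ := hT Δ.toCohDeltaFunctor e₀.hom
  obtain ⟨σ, hσ, -⟩ := hT' T e₀.inv
  have h₁ : τ ≫ σ = 𝟙 T := by
    obtain ⟨r, -, hr⟩ := hT T (𝟙 _)
    rw [hr (τ ≫ σ) ?_, hr (𝟙 T) rfl]
    show τ.app 0 ≫ σ.app 0 = 𝟙 _
    rw [hτ, hσ, e₀.hom_inv_id]
  have h₂ : σ ≫ τ = 𝟙 _ := by
    obtain ⟨r, -, hr⟩ := hT' Δ.toCohDeltaFunctor (𝟙 _)
    rw [hr (σ ≫ τ) ?_, hr (𝟙 _) rfl]
    show σ.app 0 ≫ τ.app 0 = 𝟙 _
    rw [hτ, hσ, e₀.inv_hom_id]
  exact ⟨{ hom := τ.app p
           inv := σ.app p
           hom_inv_id := congrArg (fun m : T ⟶ T => m.app p) h₁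
           inv_hom_id := congrArg (fun m : Δ.toCohDeltaFunctor ⟶ Δ.toCohDeltaFunctor => m.app p) h₂ }⟩

end Generic

variable {C : Type u} [Category.{v} C] [LocallySmall.{w} C] {U : C} [HasFiniteProducts (Over U)]
  {ι : Type w} (W : ι → Over U)

/-- The Čech complex as a functor of the presheaf. -/
abbrev cechK : (Cᵒᵖ ⥤ AddCommGrpCat.{w}) ⥤ CochainComplex AddCommGrpCat.{w} ℕ :=
  (Functor.whiskeringLeft (Over U)ᵒᵖ Cᵒᵖ AddCommGrpCat.{w}).obj (Over.forget U).op ⋙ cechComplexFunctor W

theorem ev_cechK_map {P Q : Cᵒᵖ ⥤ AddCommGrpCat.{w}} (φ : P ⟶ Q) {p : ℕ}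
    (x : ((cechK W).obj P).X p) (a : Fin (p + 1) → ι) :
    Cech.ev ((Over.forget U).op ⋙ Q) W a (((cechK W).map φ).f p x) =
      φ.app (op (Cech.inter W a).left) (Cech.ev ((Over.forget U).op ⋙ P) W a x) :=
  ConcreteCategory.congr_hom
    (Pi.map_π (fun i : Fin (p + 1) → ι => φ.app (op (Cech.inter W i).left)) a) x

instance additive_cechK : (cechK W).Additive where
  map_add {P Q} {φ ψ} := by
    refine HomologicalComplex.Hom.ext (funext fun p => ?_)
    ext x
    refine Cech.ext _ _ fun a => ?_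
    show Cech.ev ((Over.forget U).op ⋙ Q) W a (((cechK W).map (φ + ψ)).f p x) =
      Cech.ev ((Over.forget U).op ⋙ Q) W a (((cechK W).map φ).f p x + ((cechK W).map ψ).f p x)
    rw [map_add, ev_cechK_map, ev_cechK_map, ev_cechK_map]
    rfl

theorem exists_cechK_map_eq {P Q : Cᵒᵖ ⥤ AddCommGrpCat.{w}} (φ : P ⟶ Q) {p : ℕ} (y : ((cechK W).obj Q).X p)
    (h : ∀ a : Fin (p + 1) → ι, ∃ x : P.obj (op (Cech.inter W a).left),
      φ.app (op (Cech.inter W a).left) x = Cech.ev ((Over.forget U).op ⋙ Q) W a y) :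
    ∃ x, ((cechK W).map φ).f p x = y := by
  choose x hx using h
  let z : ((cechK W).obj P).X p := Cech.mk ((Over.forget U).op ⋙ P) W x
  have hz : ∀ a, Cech.ev ((Over.forget U).op ⋙ P) W a z = x a :=
    fun a => Cech.ev_mk ((Over.forget U).op ⋙ P) W x a
  refine ⟨z, Cech.ext ((Over.forget U).op ⋙ Q) W fun a => ?_⟩
  refine (ev_cechK_map W φ z a).trans ?_
  rw [hz a]
  exact hx a

theorem cechK_map_injective {P Q : Cᵒᵖ ⥤ AddCommGrpCat.{w}} (φ : P ⟶ Q)
    (h : ∀ Z : C, Function.Injective (φ.app (op Z))) {p : ℕ} :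
    Function.Injective (((cechK W).map φ).f p) := fun x y hxy =>
  Cech.ext ((Over.forget U).op ⋙ P) W fun a => h _
    (((ev_cechK_map W φ x a).symm.trans
      (congrArg (fun t => Cech.ev ((Over.forget U).op ⋙ Q) W a t) hxy)).trans (ev_cechK_map W φ y a))

theorem shortExact_cechK {S : ShortComplex (Cᵒᵖ ⥤ AddCommGrpCat.{w})} (hS : S.ShortExact) :
    (S.map (cechK W)).ShortExact := by
  refine HomologicalComplex.shortExact_of_degreewise_shortExact _ fun p => ?_
  have hev : ∀ Z : C, (S.map ((evaluation Cᵒᵖ AddCommGrpCat.{w}).obj (op Z))).ShortExact := fun Z =>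
    hS.map_of_exact _
  refine { exact := (ShortComplex.ab_exact_iff _).2 fun y hy => ?_, mono_f := ?_, epi_g := ?_ }
  · refine exists_cechK_map_eq W S.f y fun a =>
      (ShortComplex.ab_exact_iff _).1 (hev (Cech.inter W a).left).exact _ ?_
    have h0 : ((cechK W).map S.g).f p y = 0 := hy
    exact (ev_cechK_map W S.g y a).symm.trans
      ((congrArg (fun t => Cech.ev ((Over.forget U).op ⋙ S.X₃) W a t) h0).trans
        (map_zero (Cech.ev ((Over.forget U).op ⋙ S.X₃) W a)))
  · rw [AddCommGrpCat.mono_iff_injective]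
    exact cechK_map_injective W S.f fun Z => (AddCommGrpCat.mono_iff_injective _).1 (hev Z).mono_f
  · rw [AddCommGrpCat.epi_iff_surjective]
    intro y
    exact exists_cechK_map_eq W S.g y fun a =>
      (AddCommGrpCat.epi_iff_surjective _).1 (hev (Cech.inter W a).left).epi_g _

/-- Čech cohomology of presheaves is the derived functor of its degree zero part. -/
theorem nonempty_cechH_iso_rightDerived [(EtCech.cechHFunctor (C := C) W 0).Additive]
    [HasInjectiveResolutions (Cᵒᵖ ⥤ AddCommGrpCat.{w})] (p : ℕ) :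
    Nonempty (EtCech.cechHFunctor (C := C) W p ≅ (EtCech.cechHFunctor (C := C) W 0).rightDerived p) :=
  haveI : (cechK W ⋙ HomologicalComplex.homologyFunctor AddCommGrpCat.{w} (ComplexShape.up ℕ) 0).Additive :=
    ‹(EtCech.cechHFunctor (C := C) W 0).Additive›
  nonempty_homology_iso_rightDerived (cechK W) (fun S hS => shortExact_cechK W hS)
    (fun I hI n => haveI := hI; isZero_homology_of_injective W I n) p

end Groth.Agent.EtCechLib

end
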