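import Groth.Agent.EtCechLib.Cartan
import Groth.Agent.CohColim.Ext
import Mathlib.CategoryTheory.Sites.Limits
import Mathlib.CategoryTheory.Limits.ConcreteCategory.Basic
import Mathlib.CategoryTheory.Limits.Filtered
import Mathlib.Algebra.Category.Grp.FilteredColimits

/-!
# Filtered colimits of sheaves on sites with finite coverings
-/

set_option autoImplicit false
set_option linter.all false
set_option backward.isDefEq.respectTransparency.types false
set_option backward.isDefEq.respectTransparency false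
set_option maxHeartbeats 1000000

universe w v u

open CategoryTheory CategoryTheory.Limits CategoryTheory.Abelian Opposite
open Groth.Agent.SiteCoh

namespace Groth.Agent.EtCechLib

variable {C : Type u} [Category.{v} C] {J : GrothendieckTopology C}
  [HasSheafify J AddCommGrpCat.{w}] [J.WEqualsLocallyBijective AddCommGrpCat.{w}]
  {Λ : Type w} [SmallCategory Λ] [IsFiltered Λ]

/-- A colimit of sheaves is locally the colimit of presheaves. -/
theorem exists_presheaf_colimit {D : Λ ⥤ Sheaf J AddCommGrpCat.{w}} (c : Cocone D) (hc : IsColimit c) :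
    ∃ φ : (colimit (D ⋙ sheafToPresheaf J AddCommGrpCat.{w})) ⟶ c.pt.obj,
      (∀ j, colimit.ι (D ⋙ sheafToPresheaf J AddCommGrpCat.{w}) j ≫ φ = (c.ι.app j).hom) ∧
        Presheaf.IsLocallyInjective J φ ∧ Presheaf.IsLocallySurjective J φ := by
  let A := AddCommGrpCat.{w}
  let E := colimit.cocone (D ⋙ sheafToPresheaf J A)
  let φ : E.pt ⟶ c.pt.obj := colimit.desc _ ((sheafToPresheaf J A).mapCocone c)
  let hE' := Sheaf.isColimitSheafifyCocone E (colimit.isColimit _)
  let e := hE'.coconePointUniqueUpToIso hc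
  have hι : ∀ j, E.ι.app j ≫ φ = (c.ι.app j).hom := fun j => colimit.ι_desc _ j
  have hφ : φ = toSheafify J E.pt ≫ e.hom.hom := by
    refine colimit.hom_ext fun j => (hι j).trans ?_
    have h1 : (Sheaf.sheafifyCocone E).ι.app j ≫ e.hom = c.ι.app j :=
      hE'.comp_coconePointUniqueUpToIso_hom hc j
    have h2 : E.ι.app j ≫ toSheafify J E.pt = ((Sheaf.sheafifyCocone E).ι.app j).hom := by
      show _ = ((asIso (sheafificationAdjunction J A).counit).symm.hom.app (D.obj j) ≫
        (presheafToSheaf J A).map (E.ι.app j)).hom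
      have h3 : ((asIso (sheafificationAdjunction J A).counit).symm.hom.app (D.obj j)).hom =
          toSheafify J (D.obj j).obj := by
        have := (sheafificationAdjunction J A).right_triangle_components (D.obj j)
        have h4 : ((asIso (sheafificationAdjunction J A).counit).hom.app (D.obj j)).hom ≫
            ((asIso (sheafificationAdjunction J A).counit).inv.app (D.obj j)).hom = 𝟙 _ :=
          congrArg (fun q : (sheafToPresheaf J A ⋙ presheafToSheaf J A).obj (D.obj j) ⟶
            (sheafToPresheaf J A ⋙ presheafToSheaf J A).obj (D.obj j) => q.hom)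
            (Iso.hom_inv_id_app (asIso (sheafificationAdjunction J A).counit) (D.obj j))
        change toSheafify J (D.obj j).obj ≫ ((sheafificationAdjunction J A).counit.app (D.obj j)).hom = 𝟙 _ at this
        calc ((asIso (sheafificationAdjunction J A).counit).symm.hom.app (D.obj j)).hom
            = (toSheafify J (D.obj j).obj ≫ ((sheafificationAdjunction J A).counit.app (D.obj j)).hom) ≫
              ((asIso (sheafificationAdjunction J A).counit).symm.hom.app (D.obj j)).hom := by
              rw [this, Category.id_comp]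
          _ = toSheafify J (D.obj j).obj := by
              rw [Category.assoc]
              exact (congrArg (fun q => toSheafify J (D.obj j).obj ≫ q) h4).trans (Category.comp_id _)
      exact (toSheafify_naturality J (E.ι.app j)).trans (congrArg (fun q => q ≫ _) h3.symm)
    exact (congrArg (fun q => q.hom) h1.symm).trans
      ((congrArg (fun q => q ≫ e.hom.hom) h2.symm).trans (Category.assoc _ _ _))
  haveI : IsIso e.hom.hom := inferInstanceAs (IsIso ((sheafToPresheaf J A).map e.hom))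
  haveI : Presheaf.IsLocallyInjective J e.hom.hom := inferInstance
  haveI : Presheaf.IsLocallySurjective J e.hom.hom := inferInstance
  obtain ⟨_, _⟩ := (GrothendieckTopology.W_iff_isLocallyBijective (J := J) _).1 (J.W_toSheafify E.pt)
  exact ⟨φ, hι, hφ ▸ inferInstance, hφ ▸ inferInstance⟩

/-- Finitely many upward closed conditions are attained at a common stage. -/
theorem exists_common_stage {κ : Type*} [Finite κ] {j : Λ} (Q : κ → ∀ k : Λ, (j ⟶ k) → Prop)
    (hmono : ∀ i k (a : j ⟶ k) l (b : k ⟶ l), Q i k a → Q i l (a ≫ b))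
    (h : ∀ i, ∃ k a, Q i k a) : ∃ k a, ∀ i, Q i k a := by
  classical
  cases nonempty_fintype κ
  suffices H : ∀ t : Finset κ, ∃ k a, ∀ i ∈ t, Q i k a by
    obtain ⟨k, a, hk⟩ := H Finset.univ
    exact ⟨k, a, fun i => hk i (Finset.mem_univ i)⟩
  intro t
  induction t using Finset.induction_on with
  | empty => exact ⟨j, 𝟙 j, by simp⟩
  | insert i t _ ih =>
    obtain ⟨k₁, a₁, h₁⟩ := ih
    obtain ⟨k₂, a₂, h₂⟩ := h i
    obtain ⟨l, b₁, b₂, hb⟩ := IsFiltered.span a₁ a₂
    refine ⟨l, a₁ ≫ b₁, fun i' hi' => ?_⟩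
    rcases Finset.mem_insert.mp hi' with rfl | hi'
    · exact hb ▸ hmono _ _ _ _ b₂ h₂
    · exact hmono _ _ _ _ b₁ (h₁ _ hi')

theorem exists_common_obj {κ : Type*} [Finite κ] (j : κ → Λ) : ∃ k, Nonempty (∀ i, j i ⟶ k) := by
  classical
  cases nonempty_fintype κ
  obtain ⟨k, hk⟩ := IsFiltered.sup_objs_exists ((Finset.univ : Finset κ).image j)
  exact ⟨k, ⟨fun i => (hk (Finset.mem_image_of_mem j (Finset.mem_univ i))).some⟩⟩

variable [∀ U : C, HasFiniteProducts (Over U)] (𝔅 : Basis.{w} J)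
  (hfin : ∀ (U : C) (ι : Type w) (Y : ι → Over U), 𝔅.Cov U ι Y → Finite ι)
  {D : Λ ⥤ Sheaf J AddCommGrpCat.{w}} (c : Cocone D) (hc : IsColimit c)

include hfin hc in
theorem Basis.exists_eq_stage {U : C} (hU : 𝔅.B U) {j : Λ} (t : (D.obj j).obj.obj (op U))
    (ht : (c.ι.app j).hom.app (op U) t = 0) : ∃ (k : Λ) (a : j ⟶ k), (D.map a).hom.app (op U) t = 0 := by
  obtain ⟨φ, hι, _, _⟩ := exists_presheaf_colimit c hc
  haveI : PreservesColimitsOfShape Λ (forget AddCommGrpCat.{w}) :=
    PreservesFilteredColimitsOfSize.preserves_filtered_colimits Λ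
  let P := D ⋙ sheafToPresheaf J AddCommGrpCat.{w}
  have h0 : φ.app (op U) ((colimit.ι P j).app (op U) t) = φ.app (op U) 0 := by
    rw [map_zero]
    exact (ConcreteCategory.congr_hom (congrArg (fun h => h.app (op U)) (hι j)) t).trans ht
  obtain ⟨ι, Y, hY, hYT⟩ := 𝔅.refine_ U hU _ (Presheaf.equalizerSieve_mem J φ _ _ h0)
  haveI := hfin U ι Y hY
  have hk : ∀ i, ∃ (k : Λ) (a : j ⟶ k),
      (D.map a).hom.app (op (Y i).left) ((D.obj j).obj.map (Y i).hom.op t) = 0 := fun i => by
    have h1 : (colimit.ι P j).app (op (Y i).left) ((D.obj j).obj.map (Y i).hom.op t) =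
        (colimit.ι P j).app (op (Y i).left) (0 : (D.obj j).obj.obj (op (Y i).left)) := by
      refine ((NatTrans.naturality_apply (colimit.ι P j) (Y i).hom.op t).trans (hYT i)).trans ?_
      simp
    obtain ⟨k, f, g, h⟩ := Concrete.isColimit_exists_of_rep_eq _
      (isColimitOfPreserves ((evaluation Cᵒᵖ AddCommGrpCat.{w}).obj (op (Y i).left)) (colimit.isColimit P)) _ _ h1
    exact ⟨k, f, h.trans (map_zero _)⟩
  obtain ⟨k, a, hka⟩ := exists_common_stage
    (fun i k (a : j ⟶ k) => (D.map a).hom.app (op (Y i).left) ((D.obj j).obj.map (Y i).hom.op t) = 0)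
    (fun i k a l b h => by rw [D.map_comp]; show (D.map b).hom.app _ ((D.map a).hom.app _ _) = 0; rw [h, map_zero])
    hk
  refine ⟨k, a, ext_of_cover (D.obj k) (fun i => (Y i).hom) (𝔅.mem U ι Y hY) fun i => ?_⟩
  rw [map_zero, ← NatTrans.naturality_apply]
  exact hka i

include hfin hc in
theorem Basis.exists_stage {U : C} (hU : 𝔅.B U) (s : c.pt.obj.obj (op U)) :
    ∃ (k : Λ) (t : (D.obj k).obj.obj (op U)), (c.ι.app k).hom.app (op U) t = s := by
  obtain ⟨φ, hι, _, _⟩ := exists_presheaf_colimit c hc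
  haveI : PreservesColimitsOfShape Λ (forget AddCommGrpCat.{w}) :=
    PreservesFilteredColimitsOfSize.preserves_filtered_colimits Λ
  let P := D ⋙ sheafToPresheaf J AddCommGrpCat.{w}
  obtain ⟨ι, Y, hY, hYT⟩ := 𝔅.refine_ U hU _ (Presheaf.imageSieve_mem J φ s)
  haveI := hfin U ι Y hY
  have hl : ∀ i, ∃ (k : Λ) (t : (D.obj k).obj.obj (op (Y i).left)),
      (c.ι.app k).hom.app (op (Y i).left) t = c.pt.obj.map (Y i).hom.op s := fun i => by
    obtain ⟨l, hl⟩ := hYT i
    obtain ⟨k, t, rfl⟩ := Concrete.isColimit_exists_rep _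
      (isColimitOfPreserves ((evaluation Cᵒᵖ AddCommGrpCat.{w}).obj (op (Y i).left)) (colimit.isColimit P)) l
    exact ⟨k, t, (ConcreteCategory.congr_hom (congrArg (fun h => h.app _) (hι k)) t).symm.trans hl⟩
  choose j t ht using hl
  obtain ⟨k₀, ⟨m⟩⟩ := exists_common_obj j
  let t₀ : ∀ i, (D.obj k₀).obj.obj (op (Y i).left) := fun i => (D.map (m i)).hom.app _ (t i)
  have ht₀ : ∀ i, (c.ι.app k₀).hom.app _ (t₀ i) = c.pt.obj.map (Y i).hom.op s := fun i =>
    (ConcreteCategory.congr_hom (congrArg (fun h : D.obj (j i) ⟶ c.pt => h.hom.app _) (c.w (m i))) _).trans (ht i)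
  let Z : (Fin 2 → ι) → Over U := fun a => Cech.inter Y a
  let pr : ∀ (a : Fin 2 → ι) (l : Fin 2), (Z a).left ⟶ (Y (a l)).left := fun a l =>
    (Pi.π (fun l => Y (a l)) l).left
  obtain ⟨k, b, hb⟩ := exists_common_stage (κ := Fin 2 → ι)
    (fun a k (b : k₀ ⟶ k) => (D.map b).hom.app (op (Z a).left)
      ((D.obj k₀).obj.map (pr a 0).op (t₀ (a 0)) - (D.obj k₀).obj.map (pr a 1).op (t₀ (a 1))) = 0)
    (fun a k b l e h => by rw [D.map_comp]; show (D.map e).hom.app _ ((D.map b).hom.app _ _) = 0; rw [h, map_zero])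
    (fun a => 𝔅.exists_eq_stage hfin c hc (𝔅.inter U ι Y hY 1 a) _ (by
      rw [map_sub, NatTrans.naturality_apply, NatTrans.naturality_apply, ht₀, ht₀, sub_eq_zero]
      show c.pt.obj.map _ (c.pt.obj.map _ s) = c.pt.obj.map _ (c.pt.obj.map _ s)
      rw [← Functor.map_comp_apply, ← Functor.map_comp_apply, ← op_comp, ← op_comp, Over.w, Over.w]))
  let t₁ : ∀ i, (D.obj k).obj.obj (op (Y i).left) := fun i => (D.map b).hom.app _ (t₀ i)
  obtain ⟨r, hr, -⟩ := existsUnique_amalgamation (D.obj k) (fun i => (Y i).hom) (𝔅.mem U ι Y hY) t₁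
    fun i i' W gi gi' hW => by
      let a : Fin 2 → ι := ![i, i']
      let l : Over.mk (gi ≫ (Y i).hom) ⟶ Z a := Pi.lift (Fin.cases (Over.homMk gi rfl)
        (Fin.cases (Over.homMk gi' hW.symm) fun q => q.elim0))
      have h0 : l ≫ Pi.π (fun q => Y (a q)) 0 = Over.homMk gi rfl := Pi.lift_π _ _
      have h1 : l ≫ Pi.π (fun q => Y (a q)) 1 = Over.homMk gi' hW.symm := Pi.lift_π _ _
      have e0 : l.left ≫ pr a 0 = gi := congrArg (fun h : Over.mk (gi ≫ (Y i).hom) ⟶ Y i => h.left) h0
      have e1 : l.left ≫ pr a 1 = gi' := congrArg (fun h : Over.mk (gi ≫ (Y i).hom) ⟶ Y i' => h.left) h1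
      have := congrArg ((D.obj k).obj.map l.left.op) (hb a)
      rw [map_sub, map_sub, map_zero, sub_eq_zero, NatTrans.naturality_apply, NatTrans.naturality_apply,
        ← Functor.map_comp_apply, ← Functor.map_comp_apply, ← op_comp, ← op_comp] at this
      rw [← e0, ← e1]
      exact this
  refine ⟨k, r, ext_of_cover c.pt (fun i => (Y i).hom) (𝔅.mem U ι Y hY) fun i => ?_⟩
  refine (NatTrans.naturality_apply (c.ι.app k).hom (Y i).hom.op r).symm.trans ?_
  rw [hr]
  exact (ConcreteCategory.congr_hom (congrArg (fun h : D.obj k₀ ⟶ c.pt => h.hom.app _) (c.w b)) _).trans (ht₀ i)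

include hfin hc in
theorem Basis.acyclic_colimit (hD : ∀ i, 𝔅.Acyclic (D.obj i)) : 𝔅.Acyclic c.pt := by
  intro U ι Y hY p
  haveI := hfin U ι Y hY
  have hin : ∀ {q : ℕ} (a : Fin (q + 1) → ι), 𝔅.B (Cech.inter Y a).left :=
    fun a => 𝔅.inter U ι Y hY _ a
  rw [Cech.isZero_homology_succ_iff]
  intro x hx
  choose j t ht using fun a => 𝔅.exists_stage hfin c hc (hin a)
    (Cech.ev (pullPsh (Over.forget U) c.pt) Y a x)
  obtain ⟨j₀, ⟨m⟩⟩ := exists_common_obj j
  let φ : ∀ i, pullPsh (Over.forget U) (D.obj i) ⟶ pullPsh (Over.forget U) c.pt := fun i =>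
    Functor.whiskerLeft (Over.forget U).op (c.ι.app i).hom
  let ψ : ∀ {i k : Λ}, (i ⟶ k) → (pullPsh (Over.forget U) (D.obj i) ⟶ pullPsh (Over.forget U) (D.obj k)) :=
    fun a => Functor.whiskerLeft (Over.forget U).op (D.map a).hom
  have hψ : ∀ {i k : Λ} (a : i ⟶ k) (q : ℕ) (z : (Cech.cx (pullPsh (Over.forget U) (D.obj i)) Y).X q),
      Cech.map Y (φ k) (Cech.map Y (ψ a) z) = Cech.map Y (φ i) z := fun {i k} a q z =>
    Cech.ext _ _ fun b => by
      rw [Cech.ev_map, Cech.ev_map, Cech.ev_map]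
      exact ConcreteCategory.congr_hom (congrArg (fun h : D.obj i ⟶ c.pt => h.hom.app _) (c.w a)) _
  let z₀ : (Cech.cx (pullPsh (Over.forget U) (D.obj j₀)) Y).X (p + 1) :=
    Cech.mk _ Y fun a => (D.map (m a)).hom.app _ (t a)
  have hz₀ : Cech.map Y (φ j₀) z₀ = x := Cech.ext _ _ fun a => by
    rw [Cech.ev_map, Cech.ev_mk]
    refine Eq.trans ?_ (ht a)
    exact ConcreteCategory.congr_hom (congrArg (fun h : D.obj (j a) ⟶ c.pt => h.hom.app _) (c.w (m a))) _
  let d₀ := (Cech.cx (pullPsh (Over.forget U) (D.obj j₀)) Y).d (p + 1) (p + 2) z₀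
  have hd₀ : ∀ b, ∃ (k : Λ) (a : j₀ ⟶ k),
      (D.map a).hom.app (op (Cech.inter Y b).left) (Cech.ev _ Y b d₀) = 0 := fun b => by
    refine 𝔅.exists_eq_stage hfin c hc (hin b) _ ?_
    show (φ j₀).app (op (Cech.inter Y b)) _ = 0
    rw [← Cech.ev_map, Cech.map_d, hz₀, hx, map_zero]
  obtain ⟨k, a, hk⟩ := exists_common_stage (κ := Fin (p + 1 + 1 + 1) → ι)
    (fun b k a => (D.map a).hom.app (op (Cech.inter Y b).left) (Cech.ev _ Y b d₀) = 0)
    (fun b k a l e h => by rw [D.map_comp]; show (D.map e).hom.app _ ((D.map a).hom.app _ _) = 0; rw [h, map_zero])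
    hd₀
  obtain ⟨y, hy⟩ := (Cech.isZero_homology_succ_iff _ Y p).1 (hD k U ι Y hY p) (Cech.map Y (ψ a) z₀) (by
    rw [← Cech.map_d]
    exact Cech.ext _ _ fun b => by rw [Cech.ev_map, map_zero]; exact hk b)
  exact ⟨Cech.map Y (φ k) y, by rw [← Cech.map_d, hy, hψ, hz₀]⟩

variable [LocallySmall.{w} C] [IsGrothendieckAbelian.{w} (Sheaf J AddCommGrpCat.{w})]
  [HasExt.{w} (Sheaf J AddCommGrpCat.{w})]

include hfin in
/-- Cohomology of a site with a finite basis containing the final object commutes with filtered colimits. -/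
theorem Basis.preservesColimitsOfShape_H {T : C} (hT : IsTerminal T) (hTB : 𝔅.B T) (n : ℕ) :
    PreservesColimitsOfShape Λ ((extFunctor.{w} n).obj
      (op ((constantSheaf J AddCommGrpCat.{w}).obj (AddCommGrpCat.of (ULift.{w} ℤ))))) := by
  let adj := constantSheafAdj J AddCommGrpCat.{w} hT
  let Z := (constantSheaf J AddCommGrpCat.{w}).obj (AddCommGrpCat.of (ULift.{w} ℤ))
  refine CohColim.preservesColimitsOfShape_ext (fun D => ?_) (fun D hD p => ?_) n
  · refine CohColim.extSurj_and_extInj_zero D (fun a => ?_) (fun i b hb => ?_)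
    · let a' : AddCommGrpCat.of (ULift.{w} ℤ) ⟶ (colimit D).obj.obj (op T) := adj.homEquiv _ _ a
      obtain ⟨i, t, ht⟩ := 𝔅.exists_stage hfin (colimit.cocone D) (colimit.isColimit D) hTB (a' (ULift.up 1))
      let t' : AddCommGrpCat.of (ULift.{w} ℤ) ⟶ (D.obj i).obj.obj (op T) :=
        AddCommGrpCat.ofHom (uliftZMultiplesHom _ t)
      refine ⟨i, (adj.homEquiv _ _).symm t', (adj.homEquiv _ _).injective ?_⟩
      rw [Adjunction.homEquiv_naturality_right, Equiv.apply_symm_apply]
      show t' ≫ (colimit.ι D i).hom.app (op T) = a'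
      refine AddCommGrpCat.hom_ext ((uliftZMultiplesHom _).symm.injective ?_)
      show (colimit.ι D i).hom.app (op T) ((1 : ℤ) • t) = a' (ULift.up 1)
      rw [one_zsmul]
      exact ht
    · let b' : AddCommGrpCat.of (ULift.{w} ℤ) ⟶ (D.obj i).obj.obj (op T) := adj.homEquiv _ _ b
      have hz : ∀ F : Sheaf J AddCommGrpCat.{w}, adj.homEquiv (AddCommGrpCat.of (ULift.{w} ℤ)) F 0 = 0 := fun F => by
        rw [Adjunction.homEquiv_unit]
        show adj.unit.app _ ≫ (0 : Z ⟶ F).hom.app (op T) = 0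
        simp
      have h0 : b' ≫ (colimit.ι D i).hom.app (op T) = 0 := by
        have := congrArg (adj.homEquiv _ _) hb
        rw [Adjunction.homEquiv_naturality_right] at this
        exact this.trans (hz _)
      obtain ⟨k, f, hk⟩ := 𝔅.exists_eq_stage hfin (colimit.cocone D) (colimit.isColimit D) hTB (b' (ULift.up 1))
        (ConcreteCategory.congr_hom h0 (ULift.up 1))
      refine ⟨k, f, (adj.homEquiv _ _).injective ?_⟩
      rw [Adjunction.homEquiv_naturality_right, hz]
      show b' ≫ (D.map f).hom.app (op T) = 0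
      exact AddCommGrpCat.hom_ext ((uliftZMultiplesHom _).symm.injective hk)
  · exact 𝔅.subsingleton_ext (fun g hg a => exists_lift_const hT g (hg _ hTB) a)
      (𝔅.acyclic_colimit hfin (colimit.cocone D) (colimit.isColimit D)
        (fun i => haveI := hD i; 𝔅.acyclic_of_injective (D.obj i))) p

end Groth.Agent.EtCechLib
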