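import Mathlib.CategoryTheory.Limits.Constructions.Filtered
import Mathlib.CategoryTheory.Limits.Preserves.Finite
import Mathlib.CategoryTheory.Limits.Shapes.Products

/-!
# Coproducts from finite coproducts and filtered colimits
-/

set_option autoImplicit false
set_option linter.all false
set_option backward.isDefEq.respectTransparency.types false
set_option backward.isDefEq.respectTransparency false

universe u

open CategoryTheory CategoryTheory.Limits

namespace Groth.Agent.EtCechLib

open CoproductsFromFiniteFiltered

variable {C D : Type (u + 1)} [Category.{u} C] [Category.{u} D]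

/-- A functor commuting with finite coproducts and filtered colimits commutes with coproducts. -/
theorem preservesCoproducts_of_filtered [HasFiniteCoproducts C] [HasColimitsOfSize.{u, u} C] (G : C ⥤ D)
    [PreservesFiniteCoproducts G]
    (hG : ∀ (Λ : Type u) [SmallCategory Λ] [IsFiltered Λ], PreservesColimitsOfShape Λ G)
    (α : Type u) : PreservesColimitsOfShape (Discrete α) G := by
  classical
  refine ⟨fun {F} => preservesColimit_of_preserves_colimit_cocone (liftToFinsetColimitCocone F).isColimit ?_⟩
  haveI := hG (Finset (Discrete α))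
  let L := liftToFinsetObj F
  have hL := isColimitOfPreserves G (colimit.isColimit L)
  have hfin : ∀ s : Finset (Discrete α), IsColimit (G.mapCocone (colimit.cocone (Discrete.functor fun x : s => F.obj x))) :=
    fun s => isColimitOfPreserves G (colimit.isColimit _)
  let legs : ∀ (t : Cocone (F ⋙ G)) (s : Finset (Discrete α)), G.obj (L.obj s) ⟶ t.pt := fun t s =>
    (hfin s).desc ⟨t.pt, Discrete.natTrans fun x => t.ι.app x.as.1⟩
  have hlegs : ∀ (t : Cocone (F ⋙ G)) (s : Finset (Discrete α)) (x : s),
      G.map (Sigma.ι (fun x : s => F.obj x) x) ≫ legs t s = t.ι.app x.1 := fun t s x =>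
    (hfin s).fac ⟨t.pt, Discrete.natTrans fun x => t.ι.app x.as.1⟩ ⟨x⟩
  let cc : ∀ t : Cocone (F ⋙ G), Cocone (L ⋙ G) := fun t =>
    ⟨t.pt,
      { app := legs t
        naturality := fun s s' h => by
          refine (hfin s).hom_ext fun ⟨x⟩ => ?_
          show G.map (Sigma.ι (fun y : s => F.obj y) x) ≫ G.map (L.map h) ≫ legs t s' =
            G.map (Sigma.ι (fun y : s => F.obj y) x) ≫ legs t s ≫ 𝟙 _
          rw [Category.comp_id]
          refine Eq.trans ?_ (hlegs t s x).symm
          refine (Category.assoc _ _ _).symm.trans ?_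
          refine Eq.trans ?_ (hlegs t s' ⟨x.1, h.down.down x.2⟩)
          refine congrArg (· ≫ legs t s') ((G.map_comp _ _).symm.trans (congrArg G.map ?_))
          exact Sigma.ι_desc _ _ }⟩
  exact
    { desc := fun t => hL.desc (cc t)
      fac := fun t j => by
        show G.map (Sigma.ι (fun x : ({j} : Finset (Discrete α)) => F.obj x) ⟨j, by simp⟩ ≫ colimit.ι L {j}) ≫ _ = _
        rw [G.map_comp, Category.assoc]
        refine (congrArg (_ ≫ ·) (hL.fac (cc t) {j})).trans ?_
        exact hlegs t {j} ⟨j, by simp⟩
      uniq := fun t m hm => hL.uniq (cc t) m fun s => by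
        refine (hfin s).hom_ext fun ⟨x⟩ => ?_
        refine Eq.trans ?_ (hlegs t s x).symm
        refine Eq.trans ?_ (hm x.1)
        show G.map (Sigma.ι (fun y : s => F.obj y) x) ≫ G.map (colimit.ι L s) ≫ m =
          G.map (Sigma.ι (fun y : ({x.1} : Finset (Discrete α)) => F.obj y) ⟨x.1, by simp⟩ ≫ colimit.ι L {x.1}) ≫ m
        rw [← colimit.w L (homOfLE (x := {x.1}) (y := s) (by simp)), ← Category.assoc, ← G.map_comp]
        refine congrArg (fun z => G.map z ≫ m) ?_
        refine Eq.trans ?_ (Category.assoc _ _ _)
        refine congrArg (· ≫ colimit.ι L s) ?_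
        have hsub : ({x.1} : Finset (Discrete α)) ⊆ s := by simp
        exact (Sigma.ι_desc (f := fun y : ({x.1} : Finset (Discrete α)) => F.obj y.1)
          (fun y => Sigma.ι (fun z : s => F.obj z.1) ⟨y.1, hsub y.2⟩) ⟨x.1, by simp⟩).symm }


end Groth.Agent.EtCechLib
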