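import Mathlib.Algebra.Homology.ShortComplex.Ab
import Mathlib.Algebra.Homology.ShortComplex.HomologicalComplex
import Mathlib.Algebra.Category.Grp.FilteredColimits
import Mathlib.CategoryTheory.Limits.Types.Filtered

/-!
# Homology of complexes of abelian groups commutes with degreewise filtered colimits
-/

set_option autoImplicit false
set_option linter.all false
set_option backward.isDefEq.respectTransparency.types false
set_option backward.isDefEq.respectTransparency false

universe w v u

open CategoryTheory CategoryTheory.Limits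

namespace Groth.Agent.EtCechLib

variable {α : Type v} {s : ComplexShape α}

theorem homologyπ_eq_zero_iff (K : HomologicalComplex AddCommGrpCat.{w} s) (q : α) (z : K.cycles q) :
    K.homologyπ q z = 0 ↔ ∃ y, K.toCycles (s.prev q) q y = z := by
  refine ⟨fun h => (ShortComplex.ab_exact_iff _).1
    (ShortComplex.exact_of_g_is_cokernel (ShortComplex.mk _ _ (K.toCycles_comp_homologyπ (s.prev q) q))
      (K.homologyIsCokernel (s.prev q) q rfl)) z h, ?_⟩
  rintro ⟨y, rfl⟩
  exact ConcreteCategory.congr_hom (K.toCycles_comp_homologyπ (s.prev q) q) y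

theorem exists_cycle (K : HomologicalComplex AddCommGrpCat.{w} s) (q : α) (x : K.X q)
    (hx : K.d q (s.next q) x = 0) : ∃ z : K.cycles q, K.iCycles q z = x :=
  ⟨(K.sc q).abCyclesIso.inv ⟨x, hx⟩, (K.sc q).abCyclesIso_inv_apply_iCycles _⟩

theorem iCycles_cyclesMap {K L : HomologicalComplex AddCommGrpCat.{w} s} (φ : K ⟶ L) (q : α) (z : K.cycles q) :
    L.iCycles q (HomologicalComplex.cyclesMap φ q z) = φ.f q (K.iCycles q z) :=
  ConcreteCategory.congr_hom (HomologicalComplex.cyclesMap_i φ q) z

theorem homologyMap_π {K L : HomologicalComplex AddCommGrpCat.{w} s} (φ : K ⟶ L) (q : α) (z : K.cycles q) :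
    HomologicalComplex.homologyMap φ q (K.homologyπ q z) = L.homologyπ q (HomologicalComplex.cyclesMap φ q z) :=
  ConcreteCategory.congr_hom (HomologicalComplex.homologyπ_naturality φ q) z

variable {Λ : Type w} [SmallCategory Λ] [IsFiltered Λ] {D : Λ ⥤ HomologicalComplex AddCommGrpCat.{w} s}
  (c : Cocone D)

/-- Homology commutes with filtered colimits computed degreewise. -/
theorem nonempty_isColimit_homology (q : α)
    (hs : ∀ n (x : c.pt.X n), ∃ i t, (c.ι.app i).f n t = x)
    (hi : ∀ n i (t : (D.obj i).X n), (c.ι.app i).f n t = 0 → ∃ (k : Λ) (a : i ⟶ k), (D.map a).f n t = 0) :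
    Nonempty (IsColimit ((HomologicalComplex.homologyFunctor AddCommGrpCat.{w} s q).mapCocone c)) := by
  haveI : PreservesColimitsOfShape Λ (forget AddCommGrpCat.{w}) :=
    PreservesFilteredColimitsOfSize.preserves_filtered_colimits Λ
  haveI : ReflectsColimitsOfShape Λ (forget AddCommGrpCat.{w}) := reflectsColimitsOfShape_of_reflectsIsomorphisms
  have hw : ∀ {i k : Λ} (a : i ⟶ k) n (t : (D.obj i).X n),
      (c.ι.app k).f n ((D.map a).f n t) = (c.ι.app i).f n t := fun a n t =>
    ConcreteCategory.congr_hom (congrArg (fun φ => HomologicalComplex.Hom.f φ n) (c.w a)) t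
  have hd : ∀ {K L : HomologicalComplex AddCommGrpCat.{w} s} (φ : K ⟶ L) (i j : α) (t : K.X i),
      L.d i j (φ.f i t) = φ.f j (K.d i j t) := fun φ i j t => ConcreteCategory.congr_hom (φ.comm i j) t
  have hinj : ∀ (i : Λ) (h : (D.obj i).homology q),
      HomologicalComplex.homologyMap (c.ι.app i) q h = 0 →
        ∃ (k : Λ) (a : i ⟶ k), HomologicalComplex.homologyMap (D.map a) q h = 0 := by
    intro i h hh
    obtain ⟨z, rfl⟩ := (AddCommGrpCat.epi_iff_surjective _).1 (inferInstance : Epi ((D.obj i).homologyπ q)) h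
    rw [homologyMap_π, homologyπ_eq_zero_iff] at hh
    obtain ⟨y, hy⟩ := hh
    obtain ⟨j, y', rfl⟩ := hs _ y
    let k₀ := IsFiltered.max i j
    let a : i ⟶ k₀ := IsFiltered.leftToMax _ _
    let b : j ⟶ k₀ := IsFiltered.rightToMax _ _
    let u := (D.map a).f q ((D.obj i).iCycles q z) - (D.obj k₀).d (s.prev q) q ((D.map b).f _ y')
    have hu : (c.ι.app k₀).f q u = 0 := by
      rw [map_sub, hw, ← hd, hw, sub_eq_zero]
      exact ((iCycles_cyclesMap (c.ι.app i) q z).symm.trans (congrArg (c.pt.iCycles q) hy).symm).trans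
        (ConcreteCategory.congr_hom (c.pt.toCycles_i (s.prev q) q) _)
    obtain ⟨k, e, he⟩ := hi q k₀ u hu
    refine ⟨k, a ≫ e, ?_⟩
    rw [homologyMap_π, homologyπ_eq_zero_iff]
    refine ⟨(D.map (b ≫ e)).f _ y', (AddCommGrpCat.mono_iff_injective ((D.obj k).iCycles q)).1 inferInstance ?_⟩
    rw [map_sub, sub_eq_zero, ← hd] at he
    refine (ConcreteCategory.congr_hom ((D.obj k).toCycles_i (s.prev q) q) _).trans ?_
    rw [iCycles_cyclesMap, D.map_comp, D.map_comp, HomologicalComplex.comp_f, HomologicalComplex.comp_f,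
      ConcreteCategory.comp_apply, ConcreteCategory.comp_apply, he]
  refine ⟨isColimitOfReflects (forget AddCommGrpCat.{w}) (Types.FilteredColimit.isColimitOf' _ _ (fun x => ?_)
    fun i x y h => ?_)⟩
  · obtain ⟨z, rfl⟩ := (AddCommGrpCat.epi_iff_surjective _).1 (inferInstance : Epi (c.pt.homologyπ q)) x
    obtain ⟨i, t, ht⟩ := hs q (c.pt.iCycles q z)
    obtain ⟨k, a, ha⟩ := hi _ i ((D.obj i).d q (s.next q) t) (by
      rw [← hd, ht]
      exact ConcreteCategory.congr_hom (c.pt.iCycles_d q (s.next q)) z)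
    obtain ⟨z', hz'⟩ := exists_cycle (D.obj k) q ((D.map a).f q t) (by rw [hd, ha])
    have e : HomologicalComplex.cyclesMap (c.ι.app k) q z' = z :=
      (AddCommGrpCat.mono_iff_injective (c.pt.iCycles q)).1 inferInstance
        ((iCycles_cyclesMap (c.ι.app k) q z').trans ((congrArg ((c.ι.app k).f q) hz').trans ((hw a q t).trans ht)))
    refine ⟨k, (D.obj k).homologyπ q z', ?_⟩
    show c.pt.homologyπ q z = HomologicalComplex.homologyMap (c.ι.app k) q ((D.obj k).homologyπ q z')
    rw [homologyMap_π, e]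
    rfl
  · change HomologicalComplex.homologyMap (c.ι.app i) q x = HomologicalComplex.homologyMap (c.ι.app i) q y at h
    obtain ⟨k, a, ha⟩ := hinj i (x - y) (by rw [map_sub, sub_eq_zero, h])
    refine ⟨k, a, ?_⟩
    show HomologicalComplex.homologyMap (D.map a) q x = HomologicalComplex.homologyMap (D.map a) q y
    rw [← sub_eq_zero, ← map_sub, ha]

end Groth.Agent.EtCechLib
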