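import Groth.Prelude.Def_ProEtS
import Groth.Agent.EtCechLib.Colim
import Groth.Agent.EtCechLib.Coproducts
import Groth.Agent.ProEtWC.Coprod
import Groth.Agent.Et18.ProEtPoints
import Mathlib.CategoryTheory.Limits.Constructions.FiniteProductsOfBinaryProducts
import Mathlib.CategoryTheory.Limits.Constructions.Over.Products

/-!
# Pro-étale cohomology of qcqs schemes commutes with filtered colimits and coproducts
-/

set_option autoImplicit false
set_option linter.all false
set_option backward.isDefEq.respectTransparency.types false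
set_option backward.isDefEq.respectTransparency false
set_option synthInstance.maxHeartbeats 400000
set_option maxHeartbeats 1000000

universe u

open CategoryTheory CategoryTheory.Limits CategoryTheory.Abelian AlgebraicGeometry Opposite
open Groth.Agent.SiteCoh

namespace Groth.Agent.EtCechLib.ProEt

variable {X : Scheme.{u}}

/-- Quasi-compact and quasi-separated objects of the small pro-étale site. -/
def IsQcqs (U : X.ProEt) : Prop := CompactSpace U.left ∧ QuasiSeparatedSpace U.left

theorem isQcqs_of_iso {U V : X.ProEt} (e : U ≅ V) (h : IsQcqs U) : IsQcqs V := by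
  obtain ⟨_, _⟩ := h
  let f : V.left ⟶ U.left := e.inv.left
  haveI : IsIso f := inferInstanceAs (IsIso ((Scheme.ProEt.forget X ⋙ CategoryTheory.Over.forget X).map e.inv))
  exact ⟨QuasiCompact.compactSpace_of_compactSpace (Y := U.left) f,
    quasiSeparatedSpace_of_quasiSeparated (Y := U.left) f⟩

theorem isQcqs_prod {U : X.ProEt} (hU : IsQcqs U) {A B : Over U} (hA : IsQcqs A.left) (hB : IsQcqs B.left)
    {c : BinaryFan A B} (hc : IsLimit c) : IsQcqs c.pt.left := by
  obtain ⟨_, _⟩ := hU
  obtain ⟨_, _⟩ := hA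
  obtain ⟨_, _⟩ := hB
  haveI : QuasiCompact B.hom.left := quasiCompact_of_compactSpace _
  haveI : QuasiSeparated B.hom.left := QuasiSeparated.of_quasiSeparatedSpace _
  have h := (Over.isPullback_of_binaryFan_isLimit c hc).map
    (Scheme.ProEt.forget X ⋙ CategoryTheory.Over.forget X)
  haveI h1 : QuasiCompact c.fst.left.left := MorphismProperty.of_isPullback (P := @QuasiCompact) h.flip
    (inferInstanceAs (QuasiCompact B.hom.left))
  haveI h2 : QuasiSeparated c.fst.left.left := MorphismProperty.of_isPullback (P := @QuasiSeparated) h.flip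
    (inferInstanceAs (QuasiSeparated B.hom.left))
  exact ⟨QuasiCompact.compactSpace_of_compactSpace (Y := A.left.left) c.fst.left.left,
    quasiSeparatedSpace_of_quasiSeparated (Y := A.left.left) c.fst.left.left⟩

theorem isQcqs_fan [∀ U : X.ProEt, HasFiniteProducts (Over U)] {U : X.ProEt} (hU : IsQcqs U) :
    ∀ {n : ℕ} (f : Fin n → Over U), (∀ k, IsQcqs (f k).left) → ∀ {c : Fan f}, IsLimit c → IsQcqs c.pt.left := by
  intro n
  induction n with
  | zero =>
    intro f _ c hc
    have hT : IsTerminal c.pt := IsTerminal.ofUniqueHom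
      (fun Z => hc.lift (Fan.mk Z (fun k => Fin.elim0 k)))
      (fun Z m => hc.hom_ext fun ⟨k⟩ => Fin.elim0 k)
    exact isQcqs_of_iso ((Over.forget U).mapIso (Over.mkIdTerminal.uniqueUpToIso hT)) hU
  | succ n ih =>
    intro f hf c hc
    haveI : HasPullbacks X.ProEt := inferInstance
    let c₁ : Fan fun i : Fin n => f i.succ := Fan.mk _ (Pi.π fun i : Fin n => f i.succ)
    let t₁ : IsLimit c₁ := productIsProduct _
    let t₂ := prodIsProd (f 0) c₁.pt
    have h₁ := ih _ (fun k => hf k.succ) t₁
    have h₂ := isQcqs_prod hU (hf 0) h₁ t₂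
    exact isQcqs_of_iso ((Over.forget U).mapIso ((extendFanIsLimit f t₁ t₂).conePointUniqueUpToIso hc)) h₂

/-- qcqs objects with finite covering families of qcqs objects. -/
noncomputable def qcqsBasis (X : Scheme.{u}) [∀ U : X.ProEt, HasFiniteProducts (Over U)] :
    Basis.{u + 1} (Scheme.ProEt.topology X) where
  B := IsQcqs
  Cov U ι Y := IsQcqs U ∧ Finite ι ∧ (∀ i, IsQcqs (Y i).left) ∧
    Sieve.ofArrows (fun i => (Y i).left) (fun i => (Y i).hom) ∈ Scheme.ProEt.topology X U
  mem U ι Y h := h.2.2.2
  inter U ι Y h p a := isQcqs_fan h.1 _ (fun k => h.2.2.1 (a k)) (productIsProduct _)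
  refine_ U hU T hT := by
    haveI := hU.1
    obtain ⟨V, g, hg, hV, -⟩ := ProEtWC.exists_singleton_cover_of_compactSpace U
    obtain ⟨n, Yc, f, hY, hf, hcov⟩ := Et18.saturate_hasFiniteAffine (R := T) hT V g hV
    refine ⟨ULift.{u + 1} (Fin n), fun k => Over.mk (f k.down ≫ g),
      ⟨hU, inferInstance, fun k => ?_, ?_⟩, fun k => hf k.down⟩
    · haveI : IsAffine (Yc k.down).left := hY k.down
      exact ⟨inferInstanceAs (CompactSpace (Yc k.down).left),
        inferInstanceAs (QuasiSeparatedSpace (Yc k.down).left)⟩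
    · refine (Scheme.ProEt.topology X).transitive hg _ ?_
      rintro W _ ⟨_, c, _, ⟨⟩, rfl⟩
      rw [Sieve.pullback_comp]
      refine (Scheme.ProEt.topology X).pullback_stable c
        ((Scheme.ProEt.topology X).superset_covering ?_ hcov)
      rw [Sieve.generate_le_iff, Presieve.ofArrows_le_iff]
      exact fun k => Sieve.ofArrows_mk (fun k : ULift.{u + 1} (Fin n) => Yc k.down) (fun k => f k.down ≫ g) ⟨k⟩

theorem preservesColimitsOfShape_HPF (X : Scheme.{u}) [CompactSpace X] [QuasiSeparatedSpace X] (n : ℕ)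
    (Λ : Type (u + 1)) [SmallCategory Λ] [IsFiltered Λ] : PreservesColimitsOfShape Λ (ProEtS.HPF X n) := by
  haveI : ∀ U : X.ProEt, HasFiniteProducts (Over U) := fun U => inferInstance
  have hT : IsTerminal (ProEtS.topP X) :=
    IsTerminal.isTerminalOfObj (Scheme.ProEt.forget X) (ProEtS.topP X) CategoryTheory.Over.mkIdTerminal
  have h := (qcqsBasis X).preservesColimitsOfShape_H (Λ := Λ) (fun U ι Y hY => hY.2.1) hT
    ⟨inferInstanceAs (CompactSpace X), inferInstanceAs (QuasiSeparatedSpace X)⟩ n
  exact @preservesColimitsOfShape_of_natIso _ _ _ _ Λ _ _ (ProEtS.HPF X n)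
    (NatIso.ofComponents (fun F => Iso.refl _) (fun f => by ext; rfl)) h

theorem preservesCoproducts_HPF (X : Scheme.{u}) [CompactSpace X] [QuasiSeparatedSpace X] (n : ℕ)
    (ι : Type u) : PreservesColimitsOfShape (Discrete ι) (ProEtS.HPF X n) := by
  haveI : (ProEtS.HPF X n).Additive := by unfold ProEtS.HPF; infer_instance
  haveI : PreservesFiniteBiproducts (ProEtS.HPF X n) := Functor.preservesFiniteBiproductsOfAdditive _
  haveI : PreservesFiniteCoproducts (ProEtS.HPF X n) :=
    ⟨fun _ => preservesCoproductsOfShape_of_preservesBiproductsOfShape _⟩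
  haveI := preservesCoproducts_of_filtered (ProEtS.HPF X n)
    (fun Λ _ _ => preservesColimitsOfShape_HPF X n Λ) (ULift.{u + 1} ι)
  exact preservesColimitsOfShape_of_equiv (J := Discrete (ULift.{u + 1} ι)) (Discrete.equivalence Equiv.ulift) _

end Groth.Agent.EtCechLib.ProEt
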